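import Cfsg.Agent.Lib.LocalChar.Basic
import Cfsg.Agent.Lib.PGroup.Basic
import Cfsg.Agent.Lib.TI.Abelian

/-!
# TI subgroups that are maximal abelian normal in their 2-constrained normalizer

`Hyp A`: `A` is an elementary abelian 2-group, TI in `G`, maximal abelian normal in `N(A)`, and
`C(O₂(N A)) ≤ O₂(N A)`.  With `PP A = C_{O₂(N A)}(A)`:

* `commutator_mem`, `sq_mem`, `mem_of_central`, `mem_PP_of_stab`: `PP A` is special-like with centre `A`.
* `commute_of_le_normalizer`: conjugates one normalizing the other commute.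
* `Into.surj`: if a conjugate `B ≠ A` lies in `PP A` then `PP A` induces on `A ⊔ B` all of `A`.
-/

set_option autoImplicit false

namespace Cfsg.Agent.LargeTI

open Subgroup

variable {G : Type*} [Group G]

/-- Conjugate of a subgroup. -/
abbrev cj (x : G) (A : Subgroup G) : Subgroup G := A.map (MulAut.conj x).toMonoidHom

/-- `O₂(N(A))` as a subgroup of `G`. -/
def QQ (A : Subgroup G) : Subgroup G :=
  (Cfsg.pCore 2 ↥(normalizer (A : Set G))).map (normalizer (A : Set G)).subtype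

/-- `C_{O₂(N(A))}(A)`. -/
def PP (A : Subgroup G) : Subgroup G := QQ A ⊓ centralizer (A : Set G)

theorem mem_cj {A : Subgroup G} {x y : G} : y ∈ cj x A ↔ x⁻¹ * y * x ∈ A := TI.mem_conj_iff

theorem cj_cj (x y : G) (A : Subgroup G) : cj x (cj y A) = cj (x * y) A := by
  ext z
  simp only [mem_cj]
  rw [show (x * y)⁻¹ * z * (x * y) = y⁻¹ * (x⁻¹ * z * x) * y by group]

theorem cj_one (A : Subgroup G) : cj 1 A = A := by
  ext z; simp [mem_cj]

theorem conj_mem_cj {A : Subgroup G} {a : G} (x : G) (ha : a ∈ A) : x * a * x⁻¹ ∈ cj x A := ⟨a, ha, rfl⟩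

theorem cj_le_cj {A B : Subgroup G} (x : G) (h : A ≤ B) : cj x A ≤ cj x B := Subgroup.map_mono h

theorem cj_inv_cj (x : G) (A : Subgroup G) : cj x⁻¹ (cj x A) = A := by rw [cj_cj, inv_mul_cancel, cj_one]

theorem cj_injective (x : G) {A B : Subgroup G} (h : cj x A = cj x B) : A = B := by
  rw [← cj_inv_cj x A, h, cj_inv_cj]

theorem card_cj (x : G) (A : Subgroup G) : Nat.card ↥(cj x A) = Nat.card ↥A :=
  card_map_of_injective (MulAut.conj x).injective

theorem cj_eq_self [Finite G] {A : Subgroup G} {x : G} (h : x ∈ normalizer (A : Set G)) : cj x A = A :=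
  TI.mem_normalizer_iff_conj_eq.mp h

theorem cj_eq_of_centralizer [Finite G] {A : Subgroup G} {x : G} (h : x ∈ centralizer (A : Set G)) :
    cj x A = A := cj_eq_self (Subgroup.centralizer_le_normalizer _ h)

theorem normalizer_cj (x : G) (A : Subgroup G) :
    normalizer ((cj x A : Subgroup G) : Set G) = cj x (normalizer (A : Set G)) := by
  ext y
  rw [mem_cj, mem_normalizer_iff, mem_normalizer_iff]
  refine ⟨fun h z => ?_, fun h z => ?_⟩
  · have := h (x * z * x⁻¹)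
    simp only [mem_cj] at this
    convert this using 2 <;> group
  · have := h (x⁻¹ * z * x)
    simp only [mem_cj]
    convert this using 2
    group

theorem centralizer_cj (x : G) (A : Subgroup G) :
    centralizer ((cj x A : Subgroup G) : Set G) = cj x (centralizer (A : Set G)) := by
  ext y
  rw [mem_cj, mem_centralizer_iff, mem_centralizer_iff]
  refine ⟨fun h z hz => ?_, fun h z hz => ?_⟩
  · have := h _ (conj_mem_cj x hz)
    calc z * (x⁻¹ * y * x) = x⁻¹ * (x * z * x⁻¹ * y) * x := by group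
      _ = x⁻¹ * y * x * z := by rw [this]; group
  · have := h _ (mem_cj.mp hz)
    calc z * y = x * (x⁻¹ * z * x * (x⁻¹ * y * x)) * x⁻¹ := by group
      _ = y * z := by rw [this]; group

theorem QQ_cj [Finite G] (x : G) (A : Subgroup G) : QQ (cj x A) = cj x (QQ A) := by
  let e : ↥(normalizer (A : Set G)) ≃* ↥(normalizer ((cj x A : Subgroup G) : Set G)) :=
    (MulEquiv.subgroupMap (MulAut.conj x) _).trans (MulEquiv.subgroupCongr (normalizer_cj x A).symm)
  show (Cfsg.pCore 2 _).map _ = _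
  rw [← LocalChar.map_pCore_equiv e 2]
  unfold cj QQ
  rw [Subgroup.map_map, Subgroup.map_map]
  rfl

theorem PP_cj [Finite G] (x : G) (A : Subgroup G) : PP (cj x A) = cj x (PP A) := by
  rw [PP, QQ_cj, centralizer_cj]
  exact (Subgroup.map_inf _ _ _ (MulAut.conj x).injective).symm

theorem mem_sup_iff_of_commute {A B : Subgroup G} (h : ∀ a ∈ A, ∀ b ∈ B, a * b = b * a) {w : G} :
    w ∈ A ⊔ B ↔ ∃ a ∈ A, ∃ b ∈ B, w = a * b := by
  refine ⟨fun hw => ?_, fun ⟨a, ha, b, hb, e⟩ => e ▸ mul_mem (mem_sup_left ha) (mem_sup_right hb)⟩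
  let C : Subgroup G :=
    { carrier := {w | ∃ a ∈ A, ∃ b ∈ B, w = a * b}
      one_mem' := ⟨1, one_mem _, 1, one_mem _, (mul_one 1).symm⟩
      mul_mem' := by
        rintro _ _ ⟨a, ha, b, hb, rfl⟩ ⟨a', ha', b', hb', rfl⟩
        refine ⟨a * a', mul_mem ha ha', b * b', mul_mem hb hb', ?_⟩
        rw [mul_assoc, ← mul_assoc b a' b', ← h a' ha' b hb]; group
      inv_mem' := by
        rintro _ ⟨a, ha, b, hb, rfl⟩
        exact ⟨a⁻¹, inv_mem ha, b⁻¹, inv_mem hb, by rw [mul_inv_rev, h _ (inv_mem ha) _ (inv_mem hb)]⟩ }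
  have : A ⊔ B ≤ C := sup_le (fun a ha => ⟨a, ha, 1, one_mem _, (mul_one a).symm⟩)
    fun b hb => ⟨1, one_mem _, b, hb, (one_mul b).symm⟩
  exact this hw

/-- The standing hypothesis on a TI subgroup. -/
structure Hyp (A : Subgroup G) : Prop where
  comm : ∀ a ∈ A, ∀ b ∈ A, a * b = b * a
  sq : ∀ a ∈ A, a * a = 1
  ne_bot : A ≠ ⊥
  self : ∀ c ∈ normalizer (A : Set G), (∀ q ∈ QQ A, c * q = q * c) → c ∈ QQ A
  max : ∀ B : Subgroup G, A ≤ B → B ≤ normalizer (A : Set G) → (∀ a ∈ B, ∀ b ∈ B, a * b = b * a) →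
    (∀ m ∈ normalizer (A : Set G), ∀ b ∈ B, m * b * m⁻¹ ∈ B) → B = A
  ti : ∀ x : G, cj x A = A ∨ cj x A ⊓ A = ⊥

theorem Hyp.conj [Finite G] {A : Subgroup G} (h : Hyp A) (x : G) : Hyp (cj x A) where
  comm a ha b hb := by
    rw [mem_cj] at ha hb
    calc a * b = x * (x⁻¹ * a * x * (x⁻¹ * b * x)) * x⁻¹ := by group
      _ = b * a := by rw [h.comm _ ha _ hb]; group
  sq a ha := by
    rw [mem_cj] at ha
    calc a * a = x * (x⁻¹ * a * x * (x⁻¹ * a * x)) * x⁻¹ := by group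
      _ = 1 := by rw [h.sq _ ha]; group
  ne_bot e := h.ne_bot (cj_injective x (e.trans (Subgroup.map_bot _).symm))
  self c hc hcq := by
    rw [normalizer_cj, mem_cj] at hc
    rw [QQ_cj, mem_cj]
    refine h.self _ hc fun q hq => ?_
    have := hcq (x * q * x⁻¹) (by rw [QQ_cj]; exact conj_mem_cj x hq)
    calc x⁻¹ * c * x * q = x⁻¹ * (c * (x * q * x⁻¹)) * x := by group
      _ = q * (x⁻¹ * c * x) := by rw [this]; group
  max B h1 h2 h3 h4 := by
    refine cj_injective x⁻¹ ?_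
    rw [cj_inv_cj]
    refine h.max _ ?_ ?_ ?_ ?_
    · have := cj_le_cj x⁻¹ h1; rwa [cj_inv_cj] at this
    · have := cj_le_cj x⁻¹ h2; rwa [normalizer_cj, cj_inv_cj] at this
    · intro a ha b hb
      simp only [mem_cj, inv_inv] at ha hb
      calc a * b = x⁻¹ * (x * a * x⁻¹ * (x * b * x⁻¹)) * x := by group
        _ = b * a := by rw [h3 _ ha _ hb]; group
    · intro m hm b hb
      simp only [mem_cj, inv_inv] at hb ⊢
      have := h4 (x * m * x⁻¹) (by rw [normalizer_cj]; exact conj_mem_cj x hm) _ hb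
      convert this using 1
      group
  ti := TI.ti_conj h.ti x

namespace Hyp

variable {A B C : Subgroup G} (h : Hyp A)
include h

theorem le_centralizer : A ≤ centralizer (A : Set G) :=
  fun a ha => mem_centralizer_iff.mpr fun b hb => h.comm b hb a ha

theorem inv_eq {a : G} (ha : a ∈ A) : a⁻¹ = a := inv_eq_of_mul_eq_one_right (h.sq a ha)

variable [Finite G]

theorem QQ_le : QQ A ≤ normalizer (A : Set G) := map_subtype_le _

omit h in
theorem isPGroup_QQ : IsPGroup 2 ↥(QQ A) := (Components.isPGroup_pCore' 2).map _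

omit h in
theorem isPGroup_PP : IsPGroup 2 ↥(PP A) := isPGroup_QQ.to_le inf_le_left

omit h in
theorem conj_mem_QQ {m q : G} (hm : m ∈ normalizer (A : Set G)) (hq : q ∈ QQ A) :
    m * q * m⁻¹ ∈ QQ A := by
  obtain ⟨y, hy, rfl⟩ := hq
  exact ⟨_, (Components.pCore_normal' 2).conj_mem y hy ⟨m, hm⟩, rfl⟩

omit h in
/-- A 2-subgroup normalized by `N(A)` lies in `O₂(N A)`. -/
theorem le_QQ_of_normal {S : Subgroup G} (hS : S ≤ normalizer (A : Set G)) (hp : IsPGroup 2 ↥S)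
    (hn : ∀ m ∈ normalizer (A : Set G), ∀ s ∈ S, m * s * m⁻¹ ∈ S) : S ≤ QQ A := by
  intro s hs
  refine ⟨⟨s, hS hs⟩, LocalChar.le_pCore (N := S.subgroupOf _) ⟨fun n hn' m => hn m m.2 n hn'⟩
    (hp.comap_subtype) hs, rfl⟩

theorem le_QQ : A ≤ QQ A := by
  refine le_QQ_of_normal le_normalizer (fun a => ⟨1, Subtype.ext ?_⟩)
    fun m hm a ha => TI.conj_mem_of_mem_normalizer hm ha
  rw [pow_one, pow_two]
  exact h.sq a a.2

theorem le_PP : A ≤ PP A := le_inf h.le_QQ h.le_centralizer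

omit h in
theorem conj_mem_centralizer {m p : G} (hm : m ∈ normalizer (A : Set G))
    (hp : p ∈ centralizer (A : Set G)) : m * p * m⁻¹ ∈ centralizer (A : Set G) := by
  refine mem_centralizer_iff.mpr fun a ha => ?_
  have ha' : m⁻¹ * a * m ∈ A := by simpa using TI.conj_mem_of_mem_normalizer (inv_mem hm) ha
  calc a * (m * p * m⁻¹) = m * (m⁻¹ * a * m * p) * m⁻¹ := by group
    _ = m * p * m⁻¹ * a := by rw [mem_centralizer_iff.mp hp _ ha']; group

omit h in
theorem conj_mem_PP {m p : G} (hm : m ∈ normalizer (A : Set G)) (hp : p ∈ PP A) :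
    m * p * m⁻¹ ∈ PP A := ⟨conj_mem_QQ hm hp.1, conj_mem_centralizer hm hp.2⟩

omit h in
theorem comm_PP {a p : G} (hp : p ∈ PP A) (ha : a ∈ A) : a * p = p * a :=
  mem_centralizer_iff.mp hp.2 a ha

omit h in
theorem PP_le_normalizer : PP A ≤ normalizer (A : Set G) :=
  inf_le_right.trans (Subgroup.centralizer_le_normalizer _)

/-- The centre of `PP A` is `A`. -/
theorem mem_of_central {p : G} (hp : p ∈ PP A) (hc : ∀ q ∈ PP A, p * q = q * p) : p ∈ A := by
  let Z : Subgroup G := PP A ⊓ centralizer (PP A : Set G)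
  have hZ : Z = A := h.max Z (le_inf h.le_PP fun a ha => mem_centralizer_iff.mpr fun q hq => (comm_PP hq ha).symm)
    (inf_le_left.trans PP_le_normalizer)
    (fun a ha b hb => mem_centralizer_iff.mp hb.2 a ha.1)
    (fun m hm b hb => ⟨conj_mem_PP hm hb.1, mem_centralizer_iff.mpr fun q hq => by
      have hq' : m⁻¹ * q * m ∈ PP A := by simpa using conj_mem_PP (inv_mem hm) hq
      calc q * (m * b * m⁻¹) = m * (m⁻¹ * q * m * b) * m⁻¹ := by group
        _ = m * b * m⁻¹ * q := by rw [mem_centralizer_iff.mp hb.2 _ hq']; group⟩)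
  rw [← hZ]
  exact ⟨hp, mem_centralizer_iff.mpr fun q hq => (hc q hq).symm⟩

/-- The first step: `{p ∈ P | p² ∈ A, [p,P] ≤ A}` has centraliser `A` in `P`. -/
theorem mem_of_centralizes_layer {p : G} (hp : p ∈ PP A)
    (hc : ∀ k ∈ PP A, k * k ∈ A → (∀ q ∈ PP A, k * q * k⁻¹ * q⁻¹ ∈ A) → p * k = k * p) : p ∈ A := by
  haveI : Fact (Nat.Prime 2) := ⟨Nat.prime_two⟩
  let isK : G → Prop := fun k => k ∈ PP A ∧ k * k ∈ A ∧ ∀ q ∈ PP A, k * q * k⁻¹ * q⁻¹ ∈ A
  have hKconj : ∀ m ∈ normalizer (A : Set G), ∀ k, isK k → isK (m * k * m⁻¹) := by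
    rintro m hm k ⟨hk, hk2, hkq⟩
    refine ⟨conj_mem_PP hm hk, ?_, fun q hq => ?_⟩
    · convert TI.conj_mem_of_mem_normalizer hm hk2 using 1; group
    · have hq' : m⁻¹ * q * m ∈ PP A := by simpa using conj_mem_PP (inv_mem hm) hq
      convert TI.conj_mem_of_mem_normalizer hm (hkq _ hq') using 1; group
  let N₀ : Subgroup G := PP A ⊓ centralizer {k | isK k}
  suffices hN : N₀ ≤ A from hN ⟨hp, mem_centralizer_iff.mpr fun k hk => (hc k hk.1 hk.2.1 hk.2.2).symm⟩
  by_contra hN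
  have hAN : A ≤ N₀ :=
    le_inf h.le_PP fun a ha => mem_centralizer_iff.mpr fun k hk => (comm_PP hk.1 ha).symm
  have hNn : ∀ m ∈ normalizer (A : Set G), ∀ n ∈ N₀, m * n * m⁻¹ ∈ N₀ := by
    intro m hm n hn
    refine ⟨conj_mem_PP hm hn.1, mem_centralizer_iff.mpr fun k hk => ?_⟩
    have := mem_centralizer_iff.mp hn.2 _ (hKconj m⁻¹ (inv_mem hm) k hk)
    calc k * (m * n * m⁻¹) = m * (m⁻¹ * k * m⁻¹⁻¹ * n) * m⁻¹ := by group
      _ = m * n * m⁻¹ * k := by rw [this]; group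
  haveI hAn : (A.subgroupOf (PP A)).Normal :=
    ⟨fun a ha q => show (q : G) * a * (q : G)⁻¹ ∈ A from
      TI.conj_mem_of_mem_normalizer (PP_le_normalizer q.2) ha⟩
  haveI : (N₀.subgroupOf (PP A)).Normal := ⟨fun n hn q => hNn q (PP_le_normalizer q.2) n hn⟩
  haveI : ((N₀.subgroupOf (PP A)).map (QuotientGroup.mk' (A.subgroupOf (PP A)))).Normal :=
    Subgroup.Normal.map inferInstance _ (QuotientGroup.mk'_surjective _)
  obtain ⟨z, ⟨n, hn, rfl⟩, hzc, hzo⟩ := PGroup.exists_orderOf_eq_mem_center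
    ((isPGroup_PP (A := A)).to_quotient (A.subgroupOf (PP A)))
    ((N₀.subgroupOf (PP A)).map (QuotientGroup.mk' (A.subgroupOf (PP A)))) (by
      intro e
      apply hN
      intro x hx
      rw [Subgroup.map_eq_bot_iff, QuotientGroup.ker_mk'] at e
      exact e (show (⟨x, hx.1⟩ : ↥(PP A)) ∈ N₀.subgroupOf (PP A) from hx))
  have hnK : isK (n : G) := by
    refine ⟨n.2, ?_, fun q hq => ?_⟩
    · have h2 := pow_orderOf_eq_one (QuotientGroup.mk' (A.subgroupOf (PP A)) n)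
      rw [hzo, pow_two, ← map_mul] at h2
      exact (QuotientGroup.eq_one_iff (N := A.subgroupOf (PP A)) (n * n)).mp h2
    · have h2 := mem_center_iff.mp hzc (QuotientGroup.mk' _ ⟨q, hq⟩)
      have h3 : QuotientGroup.mk' (A.subgroupOf (PP A)) (n * ⟨q, hq⟩ * n⁻¹ * ⟨q, hq⟩⁻¹) = 1 := by
        rw [map_mul, map_mul, map_mul, map_inv, map_inv, ← h2]; group
      exact (QuotientGroup.eq_one_iff (N := A.subgroupOf (PP A)) (n * (⟨q, hq⟩ : ↥(PP A)) * n⁻¹ * (⟨q, hq⟩ : ↥(PP A))⁻¹)).mp h3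
  -- `n` lies in the centre of the layer, hence in `A`
  let Z : Subgroup G :=
    { carrier := {k | isK k ∧ k ∈ N₀}
      one_mem' := ⟨⟨one_mem _, by simp, fun q hq => by simp⟩, one_mem _⟩
      mul_mem' := by
        rintro a b ⟨⟨ha, ha2, haq⟩, han⟩ ⟨⟨hb, hb2, hbq⟩, hbn⟩
        refine ⟨⟨mul_mem ha hb, ?_, fun q hq => ?_⟩, mul_mem han hbn⟩
        · have : a * b * (a * b) = a * a * (b * b) := by
            have := mem_centralizer_iff.mp han.2 b ⟨hb, hb2, hbq⟩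
            calc a * b * (a * b) = a * (b * a) * b := by group
              _ = a * a * (b * b) := by rw [this]; group
          rw [this]; exact mul_mem ha2 hb2
        · have : a * b * q * (a * b)⁻¹ * q⁻¹ = a * (b * q * b⁻¹ * q⁻¹) * a⁻¹ * (a * q * a⁻¹ * q⁻¹) := by group
          rw [this]
          exact mul_mem (TI.conj_mem_of_mem_normalizer (PP_le_normalizer ha) (hbq q hq)) (haq q hq)
      inv_mem' := by
        rintro a ⟨⟨ha, ha2, haq⟩, han⟩
        refine ⟨⟨inv_mem ha, by simpa using inv_mem ha2, fun q hq => ?_⟩, inv_mem han⟩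
        have : a⁻¹ * q * a⁻¹⁻¹ * q⁻¹ = a⁻¹ * (a * q * a⁻¹ * q⁻¹)⁻¹ * a := by group
        rw [this]
        simpa using TI.conj_mem_of_mem_normalizer (inv_mem (PP_le_normalizer ha)) (inv_mem (haq q hq)) }
  have hZ : Z = A := h.max Z
    (fun a ha => ⟨⟨h.le_PP ha, by rw [h.sq a ha]; exact one_mem _, fun q hq => by
      rw [comm_PP hq ha]; simp⟩, hAN ha⟩)
    (fun k hk => PP_le_normalizer hk.1.1)
    (fun a ha b hb => mem_centralizer_iff.mp hb.2.2 a ha.1)
    (fun m hm b hb => ⟨hKconj m hm b hb.1, hNn m hm b hb.2⟩)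
  have hnA : (n : G) ∈ A := hZ.le (show (n : G) ∈ Z from ⟨hnK, hn⟩)
  have e1 : QuotientGroup.mk' (A.subgroupOf (PP A)) n = 1 :=
    (QuotientGroup.eq_one_iff (N := A.subgroupOf (PP A)) n).mpr hnA
  rw [e1, orderOf_one] at hzo
  omega

/-- Squares and commutators of `PP A` lie in `A`. -/
theorem sq_commutator_mem :
    (∀ p ∈ PP A, p * p ∈ A) ∧ ∀ p ∈ PP A, ∀ q ∈ PP A, p * q * p⁻¹ * q⁻¹ ∈ A := by
  -- `p k p⁻¹ = k * l` with `l ∈ A` central
  have key : ∀ p ∈ PP A, ∀ k ∈ PP A, k * k ∈ A → (∀ q ∈ PP A, k * q * k⁻¹ * q⁻¹ ∈ A) →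
      ∃ l ∈ A, p * k * p⁻¹ = l * k := fun p hp k _ _ hkq => by
    refine ⟨(k * p * k⁻¹ * p⁻¹)⁻¹, inv_mem (hkq p hp), ?_⟩
    group
  constructor
  · intro p hp
    refine h.mem_of_centralizes_layer (mul_mem hp hp) fun k hk hk2 hkq => ?_
    obtain ⟨l, hl, e⟩ := key p hp k hk hk2 hkq
    refine mul_inv_eq_iff_eq_mul.mp ?_
    calc p * p * k * (p * p)⁻¹ = p * (p * k * p⁻¹) * p⁻¹ := by group
      _ = p * l * p⁻¹ * (p * k * p⁻¹) := by nth_rw 1 [e]; group
      _ = l * l * k := by rw [← comm_PP hp hl, mul_inv_cancel_right, e, mul_assoc]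
      _ = k := by rw [h.sq l hl, one_mul]
  · intro p hp q hq
    refine h.mem_of_centralizes_layer
      (mul_mem (mul_mem (mul_mem hp hq) (inv_mem hp)) (inv_mem hq)) fun k hk hk2 hkq => ?_
    have comm1 : ∀ r ∈ PP A, ∀ l ∈ A, r * l * r⁻¹ = l := fun r hr l hl => by
      rw [← comm_PP hr hl, mul_inv_cancel_right]
    obtain ⟨l, hl, e⟩ := key p hp k hk hk2 hkq
    obtain ⟨l', hl', e'⟩ := key q hq k hk hk2 hkq
    have ei : p⁻¹ * k * p = l * k := by
      have : k = p * (l * k) * p⁻¹ := by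
        calc k = l * l * k := by rw [h.sq l hl, one_mul]
          _ = (p * l * p⁻¹) * (p * k * p⁻¹) := by rw [comm1 p hp l hl, e, mul_assoc]
          _ = p * (l * k) * p⁻¹ := by group
      conv_lhs => rw [this]
      group
    have ei' : q⁻¹ * k * q = l' * k := by
      have : k = q * (l' * k) * q⁻¹ := by
        calc k = l' * l' * k := by rw [h.sq l' hl', one_mul]
          _ = (q * l' * q⁻¹) * (q * k * q⁻¹) := by rw [comm1 q hq l' hl', e', mul_assoc]
          _ = q * (l' * k) * q⁻¹ := by group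
      conv_lhs => rw [this]
      group
    refine mul_inv_eq_iff_eq_mul.mp ?_
    calc p * q * p⁻¹ * q⁻¹ * k * (p * q * p⁻¹ * q⁻¹)⁻¹
        = p * (q * (p⁻¹ * (q⁻¹ * k * q) * p) * q⁻¹) * p⁻¹ := by group
      _ = p * (q * ((p⁻¹ * l' * p) * (p⁻¹ * k * p)) * q⁻¹) * p⁻¹ := by rw [ei']; group
      _ = p * ((q * l' * q⁻¹) * (q * l * q⁻¹) * (q * k * q⁻¹)) * p⁻¹ := by
        rw [ei, show p⁻¹ * l' * p = l' by rw [mul_assoc, comm_PP hp hl', inv_mul_cancel_left]]; group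
      _ = (p * l' * p⁻¹) * (p * l * p⁻¹) * (p * l' * p⁻¹) * (p * k * p⁻¹) := by
        rw [comm1 q hq l' hl', comm1 q hq l hl, e']; group
      _ = l' * l * l' * (l * k) := by rw [comm1 p hp l' hl', comm1 p hp l hl, e]
      _ = k := by
        rw [mul_assoc l' l l', h.comm l hl l' hl', ← mul_assoc l' l' l, h.sq l' hl', one_mul,
          ← mul_assoc, h.sq l hl, one_mul]

theorem sq_mem {p : G} (hp : p ∈ PP A) : p * p ∈ A := h.sq_commutator_mem.1 p hp

theorem commutator_mem {p q : G} (hp : p ∈ PP A) (hq : q ∈ PP A) : p * q * p⁻¹ * q⁻¹ ∈ A :=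
  h.sq_commutator_mem.2 p hp q hq

/-- An element of `C(A)` acting trivially on `PP A / A` lies in `PP A`. -/
theorem mem_PP_of_stab {c : G} (hc : c ∈ centralizer (A : Set G))
    (hs : ∀ p ∈ PP A, c * p * c⁻¹ * p⁻¹ ∈ A) : c ∈ PP A := by
  haveI : Fact (Nat.Prime 2) := ⟨Nat.prime_two⟩
  -- the centraliser of `PP A` in `C(A)` is `A`
  have hT : ∀ t, t ∈ centralizer (A : Set G) → (∀ p ∈ PP A, t * p = p * t) → t * t ∈ A := by
    intro t ht htp
    have htN := Subgroup.centralizer_le_normalizer _ ht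
    have hcomm : ∀ q ∈ QQ A, t * q * t⁻¹ * q⁻¹ ∈ A := by
      intro q hq
      have hqN := h.QQ_le hq
      have hmem : t * q * t⁻¹ * q⁻¹ ∈ PP A :=
        ⟨Subgroup.mul_mem _ (conj_mem_QQ htN hq) (Subgroup.inv_mem _ hq), by
          rw [show t * q * t⁻¹ * q⁻¹ = t * (q * t⁻¹ * q⁻¹) by group]
          exact Subgroup.mul_mem _ ht (conj_mem_centralizer hqN (Subgroup.inv_mem _ ht))⟩
      refine h.mem_of_central hmem fun r hr => ?_
      have hr' : q⁻¹ * r * q ∈ PP A := by simpa using conj_mem_PP (inv_mem hqN) hr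
      refine mul_inv_eq_iff_eq_mul.mp ?_
      calc t * q * t⁻¹ * q⁻¹ * r * (t * q * t⁻¹ * q⁻¹)⁻¹
          = t * q * (t⁻¹ * ((q⁻¹ * r * q) * t)) * q⁻¹ * t⁻¹ := by group
        _ = t * r * t⁻¹ := by rw [← htp _ hr']; group
        _ = r := by rw [htp r hr, mul_inv_cancel_right]
    have hsqQ : ∀ q ∈ QQ A, t * t * q = q * (t * t) := by
      intro q hq
      have hl := hcomm q hq
      refine mul_inv_eq_iff_eq_mul.mp ?_
      calc t * t * q * (t * t)⁻¹ = t * (t * q * t⁻¹ * q⁻¹) * t⁻¹ * (t * q * t⁻¹ * q⁻¹) * q := by group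
        _ = (t * q * t⁻¹ * q⁻¹) * (t * q * t⁻¹ * q⁻¹) * q := by
          rw [← mem_centralizer_iff.mp ht _ hl, mul_inv_cancel_right]
        _ = q := by rw [h.sq _ hl, one_mul]
    have hmem : t * t ∈ PP A := ⟨h.self _ (mul_mem htN htN) hsqQ, Subgroup.mul_mem _ ht ht⟩
    refine h.mem_of_central hmem fun p hp => ?_
    rw [mul_assoc, htp p hp, ← mul_assoc, htp p hp, mul_assoc]
  let S : Subgroup G :=
    { carrier := {x | x ∈ centralizer (A : Set G) ∧ ∀ p ∈ PP A, x * p * x⁻¹ * p⁻¹ ∈ A}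
      one_mem' := ⟨one_mem _, fun p _ => by simp⟩
      mul_mem' := by
        rintro a b ⟨ha, ha'⟩ ⟨hb, hb'⟩
        refine ⟨mul_mem ha hb, fun p hp => ?_⟩
        rw [show a * b * p * (a * b)⁻¹ * p⁻¹ = a * (b * p * b⁻¹ * p⁻¹) * a⁻¹ * (a * p * a⁻¹ * p⁻¹) by group]
        exact mul_mem (TI.conj_mem_of_mem_normalizer (Subgroup.centralizer_le_normalizer _ ha) (hb' p hp))
          (ha' p hp)
      inv_mem' := by
        rintro a ⟨ha, ha'⟩
        refine ⟨inv_mem ha, fun p hp => ?_⟩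
        rw [show a⁻¹ * p * a⁻¹⁻¹ * p⁻¹ = a⁻¹ * (a * p * a⁻¹ * p⁻¹)⁻¹ * a⁻¹⁻¹ by group]
        exact TI.conj_mem_of_mem_normalizer (Subgroup.centralizer_le_normalizer _ (inv_mem ha))
          (inv_mem (ha' p hp)) }
  have hSp : IsPGroup 2 ↥S := by
    rintro ⟨x, hx, hx'⟩
    refine ⟨3, Subtype.ext ?_⟩
    have hx2 : ∀ p ∈ PP A, x * x * p = p * (x * x) := by
      intro p hp
      refine mul_inv_eq_iff_eq_mul.mp ?_
      calc x * x * p * (x * x)⁻¹ = x * (x * p * x⁻¹ * p⁻¹) * x⁻¹ * (x * p * x⁻¹ * p⁻¹) * p := by group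
        _ = (x * p * x⁻¹ * p⁻¹) * (x * p * x⁻¹ * p⁻¹) * p := by
          rw [← mem_centralizer_iff.mp hx _ (hx' p hp), mul_inv_cancel_right]
        _ = p := by rw [h.sq _ (hx' p hp), one_mul]
    have h4 := hT _ (mul_mem hx hx) hx2
    have h8 := h.sq _ h4
    show x ^ 2 ^ 3 = 1
    rw [← h8]
    simp [pow_succ, mul_assoc]
  have hSQ : S ≤ QQ A := by
    refine le_QQ_of_normal (fun x hx => Subgroup.centralizer_le_normalizer _ hx.1) hSp ?_
    rintro m hm s ⟨hs, hs'⟩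
    refine ⟨conj_mem_centralizer hm hs, fun p hp => ?_⟩
    have hp' : m⁻¹ * p * m ∈ PP A := by simpa using conj_mem_PP (inv_mem hm) hp
    convert TI.conj_mem_of_mem_normalizer hm (hs' _ hp') using 1
    group
  exact ⟨hSQ ⟨hc, hs⟩, hc⟩

theorem mem_normalizer_of_commute {a x : G} (ha : a ∈ A) (ha1 : a ≠ 1) (hc : x * a = a * x) :
    x ∈ normalizer (A : Set G) := TI.mem_normalizer_of_commute h.ti ha ha1 hc

/-- Two conjugates sharing a non-identity element are equal. -/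
theorem eq_of_meet (hB : ∃ x, B = cj x A) (hC : ∃ x, C = cj x A) {a : G} (haB : a ∈ B) (haC : a ∈ C)
    (ha : a ≠ 1) : B = C := by
  obtain ⟨x, rfl⟩ := hB
  obtain ⟨y, rfl⟩ := hC
  have := (h.conj y).ti (x * y⁻¹)
  rw [cj_cj, inv_mul_cancel_right] at this
  refine this.resolve_right fun e => ha ?_
  rw [← mem_bot, ← e]
  exact ⟨haB, haC⟩

theorem inf_eq_bot (hB : ∃ x, B = cj x A) (hne : B ≠ A) {a : G} (haB : a ∈ B) (haA : a ∈ A) : a = 1 := by
  by_contra ha
  exact hne (h.eq_of_meet hB ⟨1, (cj_one A).symm⟩ haB haA ha)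

/-- A conjugate normalizing another one commutes with it. -/
theorem commute_of_le_normalizer (hB : ∃ x, B = cj x A) (hne : B ≠ A)
    (hN : B ≤ normalizer (A : Set G)) : ∀ a ∈ A, ∀ b ∈ B, a * b = b * a := by
  obtain ⟨x, rfl⟩ := hB
  have hB' := h.conj x
  -- an element of `A` normalizing the conjugate centralises it
  have h1 : ∀ a ∈ A, a ∈ normalizer ((cj x A : Subgroup G) : Set G) → ∀ b ∈ cj x A, a * b = b * a := by
    intro a ha haN b hb
    refine mul_inv_eq_one.mp ?_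
    refine h.inf_eq_bot ⟨x, rfl⟩ hne ?_ (a := a * b * (b * a)⁻¹) ?_
    · rw [mul_inv_rev, ← mul_assoc]
      exact mul_mem (TI.conj_mem_of_mem_normalizer haN hb) (inv_mem hb)
    · rw [show a * b * (b * a)⁻¹ = a * (b * a⁻¹ * b⁻¹) by group]
      exact mul_mem ha (TI.conj_mem_of_mem_normalizer (hN hb) (inv_mem ha))
  let A₀ : Subgroup G := A ⊓ normalizer ((cj x A : Subgroup G) : Set G)
  suffices A₀ = A from fun a ha => h1 a ha (mem_inf.mp (this.ge ha)).2
  by_contra hA₀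
  obtain ⟨a, ha, haN⟩ : ∃ a ∈ A, a ∉ normalizer ((cj x A : Subgroup G) : Set G) := by
    by_contra hcon
    push Not at hcon
    exact hA₀ (le_antisymm inf_le_left fun a ha => ⟨ha, hcon a ha⟩)
  have hlt : Nat.card ↥A₀ < Nat.card ↥(cj x A) := by
    rw [card_cj]
    exact lt_of_le_of_ne (Nat.le_of_dvd Nat.card_pos (card_dvd_of_le inf_le_left))
      fun e => hA₀ (eq_of_le_of_card_ge inf_le_left e.ge)
  have hmap : ∀ b ∈ cj x A, a * b * a⁻¹ * b⁻¹ ∈ A₀ := by
    intro b hb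
    have hmem : a * b * a⁻¹ * b⁻¹ ∈ A := by
      rw [show a * b * a⁻¹ * b⁻¹ = a * (b * a⁻¹ * b⁻¹) by group]
      exact mul_mem ha (TI.conj_mem_of_mem_normalizer (hN hb) (inv_mem ha))
    refine ⟨hmem, ?_⟩
    by_cases hb1 : b = 1
    · simp [hb1]
    refine hB'.mem_normalizer_of_commute hb hb1 ?_
    -- `b` inverts, hence centralises, the commutator
    have h2 : b * (a * b * a⁻¹ * b⁻¹) * b⁻¹ = (a * b * a⁻¹ * b⁻¹)⁻¹ := by
      have e1 : b⁻¹ = b := hB'.inv_eq hb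
      have e2 : b * a * b⁻¹ ∈ A := TI.conj_mem_of_mem_normalizer (hN hb) ha
      calc b * (a * b * a⁻¹ * b⁻¹) * b⁻¹ = (b * a * b⁻¹) * (b * b) * a⁻¹ * (b * b)⁻¹ := by group
        _ = b * a * b⁻¹ * a⁻¹ := by rw [hB'.sq b hb]; group
        _ = (a * b * a⁻¹ * b⁻¹)⁻¹ := by group
    rw [h.inv_eq hmem, mul_inv_eq_iff_eq_mul] at h2
    exact h2.symm
  refine absurd (Nat.card_le_card_of_injective
    (fun b : ↥(cj x A) => (⟨_, hmap b b.2⟩ : ↥A₀)) fun b b' e => ?_) (not_le.mpr hlt)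
  have e' : a * (b : G) * a⁻¹ * (b : G)⁻¹ = a * (b' : G) * a⁻¹ * (b' : G)⁻¹ := congrArg Subtype.val e
  by_contra hne'
  refine haN (hB'.mem_normalizer_of_commute (mul_mem (inv_mem b'.2) b.2)
    (fun e => hne' (Subtype.ext (inv_mul_eq_one.mp e).symm)) ?_)
  calc a * ((b' : G)⁻¹ * b) = a * (b' : G)⁻¹ * a⁻¹ * (a * b * a⁻¹ * (b : G)⁻¹) * b * a := by group
    _ = a * (b' : G)⁻¹ * a⁻¹ * (a * b' * a⁻¹ * (b' : G)⁻¹) * b * a := by rw [e']
    _ = (b' : G)⁻¹ * b * a := by group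

end Hyp

variable [Finite G]

/-- `B` is a conjugate of `A`, different from it, inside `PP A`. -/
structure Into (A B : Subgroup G) : Prop where
  hyp : Hyp A
  conj : ∃ x, B = cj x A
  ne : B ≠ A
  le : B ≤ PP A

namespace Into

variable {A B : Subgroup G} (h : Into A B)
include h

theorem hypB : Hyp B := by
  obtain ⟨x, rfl⟩ := h.conj
  exact h.hyp.conj x

theorem comm : ∀ a ∈ A, ∀ b ∈ B, a * b = b * a := fun _ ha _ hb => Hyp.comm_PP (h.le hb) ha

theorem card_eq : Nat.card ↥B = Nat.card ↥A := by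
  obtain ⟨x, rfl⟩ := h.conj
  exact card_cj x A

theorem conj_into {x : G} : Into (cj x A) (cj x B) := by
  refine ⟨h.hyp.conj x, ?_, fun e => h.ne (cj_injective x e), ?_⟩
  · obtain ⟨y, hy⟩ := h.conj
    exact ⟨x * y * x⁻¹, by rw [hy, cj_cj, cj_cj, inv_mul_cancel_right]⟩
  · rw [PP_cj]; exact cj_le_cj x h.le

theorem disjoint {a : G} (haB : a ∈ B) (haA : a ∈ A) : a = 1 := h.hyp.inf_eq_bot h.conj h.ne haB haA

/-- Some conjugate of `B` in `PP A` commutes with `B` only trivially. -/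
theorem exists_partner : ∃ U : Subgroup G, Into A U ∧
    ∀ u ∈ U, ∀ b ∈ B, u * b = b * u → u = 1 ∨ b = 1 := by
  obtain ⟨m, hm, b₀, hb₀, b₁, hb₁, hne⟩ : ∃ m ∈ normalizer (A : Set G), ∃ b₀ ∈ B, ∃ b₁ ∈ B,
      m * b₀ * m⁻¹ * b₁ ≠ b₁ * (m * b₀ * m⁻¹) := by
    by_contra hcon
    push Not at hcon
    set S : Set G := (A : Set G) ∪ {y | ∃ m ∈ normalizer (A : Set G), ∃ b ∈ B, y = m * b * m⁻¹} with hS
    have hSP : S ⊆ PP A := by
      rintro y (hy | ⟨m, hm, b, hb, rfl⟩)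
      · exact h.hyp.le_PP hy
      · exact Hyp.conj_mem_PP hm (h.le hb)
    have hScomm : ∀ y ∈ S, ∀ y' ∈ S, y * y' = y' * y := by
      rintro y (hy | ⟨m, hm, b, hb, rfl⟩) y' hy'
      · exact Hyp.comm_PP (hSP hy') hy
      rcases hy' with hy' | ⟨m', hm', b', hb', rfl⟩
      · exact (Hyp.comm_PP (Hyp.conj_mem_PP hm (h.le hb)) hy').symm
      have := hcon (m'⁻¹ * m) (mul_mem (inv_mem hm') hm) b hb b' hb'
      calc m * b * m⁻¹ * (m' * b' * m'⁻¹) = m' * (m'⁻¹ * m * b * (m'⁻¹ * m)⁻¹ * b') * m'⁻¹ := by group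
        _ = m' * b' * m'⁻¹ * (m * b * m⁻¹) := by rw [this]; group
    have hcl : closure S ≤ centralizer (closure S : Set G) := by
      rw [centralizer_closure]
      rw [closure_le]
      exact fun y hy => mem_centralizer_iff.mpr fun y' hy' => hScomm y' hy' y hy
    have hA : closure S = A := h.hyp.max (closure S) (fun a ha => subset_closure (Or.inl ha))
      ((closure_le _).mpr (hSP.trans Hyp.PP_le_normalizer))
      (fun a ha b hb => mem_centralizer_iff.mp (hcl hb) a ha) (fun m hm y hy => by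
        induction hy using closure_induction with
        | mem y hy =>
          refine subset_closure ?_
          rcases hy with hy | ⟨m', hm', b, hb, rfl⟩
          · exact Or.inl (TI.conj_mem_of_mem_normalizer hm hy)
          · exact Or.inr ⟨m * m', mul_mem hm hm', b, hb, by group⟩
        | one => simp
        | mul a b _ _ ha hb =>
          rw [show m * (a * b) * m⁻¹ = m * a * m⁻¹ * (m * b * m⁻¹) by group]; exact mul_mem ha hb
        | inv a _ ha =>
          rw [show m * a⁻¹ * m⁻¹ = (m * a * m⁻¹)⁻¹ by group]; exact inv_mem ha)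
    obtain ⟨⟨b, hb⟩, hb1⟩ := exists_ne_one_of_ne_bot h.hypB
    exact hb1 (h.disjoint hb (hA ▸ subset_closure (Or.inr ⟨1, one_mem _, b, hb, by group⟩)))
  have hU : Into A (cj m B) := by
    have := h.conj_into (x := m)
    rwa [cj_eq_self hm] at this
  refine ⟨cj m B, hU, fun u hu b hb hub => ?_⟩
  by_contra hcon
  push Not at hcon
  refine hne ?_
  have hU' := hU.hypB
  -- commutators lie in `A`
  have huN : u ∈ normalizer (B : Set G) := h.hypB.mem_normalizer_of_commute hb hcon.2 hub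
  have h1 : ∀ b' ∈ B, u * b' = b' * u := fun b' hb' => by
    refine mul_inv_eq_one.mp (h.disjoint ?_ (a := u * b' * (b' * u)⁻¹) ?_)
    · rw [mul_inv_rev, ← mul_assoc]
      exact mul_mem (TI.conj_mem_of_mem_normalizer huN hb') (inv_mem hb')
    · rw [mul_inv_rev, ← mul_assoc]
      exact h.hyp.commutator_mem (hU.le hu) (h.le hb')
  have hbN : b₁ ∈ normalizer ((cj m B : Subgroup G) : Set G) :=
    hU'.mem_normalizer_of_commute hu hcon.1 (h1 b₁ hb₁).symm
  have hu₀ := conj_mem_cj m hb₀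
  refine mul_inv_eq_one.mp (hU.disjoint ?_ (a := m * b₀ * m⁻¹ * b₁ * (b₁ * (m * b₀ * m⁻¹))⁻¹) ?_)
  · rw [show m * b₀ * m⁻¹ * b₁ * (b₁ * (m * b₀ * m⁻¹))⁻¹ =
      m * b₀ * m⁻¹ * (b₁ * (m * b₀ * m⁻¹)⁻¹ * b₁⁻¹) by group]
    exact mul_mem hu₀ (TI.conj_mem_of_mem_normalizer hbN (inv_mem hu₀))
  · rw [mul_inv_rev, ← mul_assoc]
    exact h.hyp.commutator_mem (hU.le hu₀) (h.le hb₁)
where
  exists_ne_one_of_ne_bot {C : Subgroup G} (hC : Hyp C) : ∃ c : ↥C, (c : G) ≠ 1 := by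
    by_contra hcon
    push Not at hcon
    exact hC.ne_bot ((Subgroup.eq_bot_iff_forall _).mpr fun x hx => hcon ⟨x, hx⟩)

/-- `PP A` induces every translation `b ↦ a * b`. -/
theorem surj {a b : G} (ha : a ∈ A) (hb : b ∈ B) (hb1 : b ≠ 1) : ∃ p ∈ PP A, p * b * p⁻¹ = a * b := by
  obtain ⟨U, hU, hUB⟩ := h.exists_partner
  let f : ↥U → ↥A := fun u => ⟨(u : G) * b * (u : G)⁻¹ * b⁻¹, h.hyp.commutator_mem (hU.le u.2) (h.le hb)⟩
  have hinj : Function.Injective f := by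
    intro u u' e
    have e' : (u : G) * b * (u : G)⁻¹ = (u' : G) * b * (u' : G)⁻¹ := mul_right_cancel (congrArg Subtype.val e)
    refine Subtype.ext (inv_mul_eq_one.mp (((hUB _ (mul_mem (inv_mem u.2) u'.2) b hb) ?_).resolve_right hb1))
    calc (u : G)⁻¹ * u' * b = (u : G)⁻¹ * ((u' : G) * b * (u' : G)⁻¹) * u' := by group
      _ = b * ((u : G)⁻¹ * u') := by rw [← e']; group
  have hbij := (Nat.bijective_iff_injective_and_card f).mpr ⟨hinj, hU.card_eq⟩
  obtain ⟨u, hu⟩ := hbij.2 ⟨a, ha⟩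
  exact ⟨u, hU.le u.2, mul_inv_eq_iff_eq_mul.mp (congrArg Subtype.val hu)⟩

/-- The members of the spread of `A ⊔ B`. -/
theorem eq_of_le_sup {Z : Subgroup G} (hZ : ∃ x, Z = cj x A) {w : G} (hw : w ∈ Z) (hw1 : w ≠ 1)
    (hwW : w ∈ A ⊔ B) : Z = A ∨ ∃ p ∈ PP A, Z = cj p B := by
  obtain ⟨a, ha, b, hb, rfl⟩ := (mem_sup_iff_of_commute h.comm).mp hwW
  by_cases hb1 : b = 1
  · subst hb1
    rw [mul_one] at hw hw1
    exact Or.inl (h.hyp.eq_of_meet hZ ⟨1, (cj_one A).symm⟩ hw ha hw1)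
  · obtain ⟨p, hp, e⟩ := h.surj ha hb hb1
    refine Or.inr ⟨p, hp, h.hyp.eq_of_meet hZ ?_ hw (e ▸ conj_mem_cj p hb) hw1⟩
    obtain ⟨y, hy⟩ := h.conj
    exact ⟨p * y, by rw [hy, cj_cj]⟩

/-- `PP A` normalizes `A ⊔ B`. -/
theorem PP_le_normalizer_sup : PP A ≤ normalizer ((A ⊔ B : Subgroup G) : Set G) := by
  intro p hp
  rw [TI.mem_normalizer_iff_conj_eq]
  refine eq_of_le_of_card_ge ?_ (card_map_of_injective (MulAut.conj p).injective).ge
  rw [Subgroup.map_sup]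
  refine sup_le ?_ ?_
  · rw [show A.map (MulAut.conj p).toMonoidHom = A from cj_eq_self (Hyp.PP_le_normalizer hp)]
    exact le_sup_left
  · rintro _ ⟨b, hb, rfl⟩
    show p * b * p⁻¹ ∈ A ⊔ B
    rw [show p * b * p⁻¹ = p * b * p⁻¹ * b⁻¹ * b by group]
    exact mul_mem (mem_sup_left (h.hyp.commutator_mem hp (h.le hb))) (mem_sup_right hb)

end Into

end Cfsg.Agent.LargeTI
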