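import Cfsg.Agent.Lib.LargeTI.Basic
import Cfsg.Agent.Lib.Involution.BaerSuzuki
import Cfsg.Agent.Lib.Involution.Dihedral
import Mathlib.Algebra.BigOperators.Group.Finset.Basic

/-!
# An involution criterion for `C_{O₂(N A)}(A)`

`mem_PP_of_involution`: if `B ≠ A` is a conjugate of `A` inside `PP A`, an involution of `C(A)` centralising
`C_{PP A}(B)` lies in `PP A` (Baer–Suzuki plus a coprime action argument).
-/

set_option autoImplicit false

namespace Cfsg.Agent.LargeTI

open Subgroup Finset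

/-- An odd order automorphism `σ` of an elementary abelian 2-group inverted by an involution `τ`, preserving a
pairing `β`, is trivial provided some `τ`-fixed `b` has `b⊥` fixed by `τ`, and `β (p * τ p) p = 1` for all `p`. -/
theorem inverted_trivial {D A' : Type*} [CommGroup D] [CommGroup A'] (σ τ : MulAut D) {h : ℕ}
    (hσ : σ ^ (2 * h + 1) = 1) (hτ : τ * σ * τ⁻¹ = σ⁻¹) (hD : ∀ p : D, p * p = 1) (β : D →* D →* A')
    (hβ : ∀ p q, β (σ p) (σ q) = β p q) (b : D) (hb : τ b = b)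
    (h1 : ∀ p, β b p = 1 → τ p = p) (h2 : ∀ p, β (p * τ p) p = 1) : σ = 1 := by
  set m := 2 * h + 1 with hm
  let π : D →* D := MonoidHom.mk' (fun p => ∏ i ∈ range m, (σ ^ i) p) fun p q => by
    simp [map_mul, prod_mul_distrib]
  have hπ : ∀ p, π p = ∏ i ∈ range m, (σ ^ i) p := fun p => rfl
  have hπσ : ∀ p, π (σ p) = π p := by
    intro p
    have e1 := prod_range_succ (fun i => (σ ^ i) p) m
    have e2 := prod_range_succ' (fun i => (σ ^ i) p) m
    rw [e1, hσ, pow_zero] at e2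
    rw [hπ, hπ]
    have e3 : ∏ i ∈ range m, (σ ^ i) (σ p) = ∏ i ∈ range m, (σ ^ (i + 1)) p :=
      prod_congr rfl fun i _ => by rw [pow_succ]; rfl
    rw [e3]
    exact (mul_right_cancel e2).symm
  have hπσk : ∀ (k : ℕ) p, π ((σ ^ k) p) = π p := by
    intro k
    induction k with
    | zero => simp
    | succ k ih => intro p; rw [pow_succ]; exact (ih (σ p)).trans (hπσ p)
  have hσπ : ∀ p, σ (π p) = π p := by
    intro p
    rw [← hπσ p, hπ, map_prod]
    rw [show (∏ i ∈ range m, σ ((σ ^ i) (σ p))) = ∏ i ∈ range m, (σ ^ i) (σ (σ p)) from prod_congr rfl fun i _ => by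
      show (σ * σ ^ i) (σ p) = (σ ^ i * σ) (σ p)
      rw [← pow_succ', pow_succ]]
    rw [← hπ, ← hπ, hπσ]
  have hβk : ∀ (k : ℕ) p q, β ((σ ^ k) p) ((σ ^ k) q) = β p q := by
    intro k
    induction k with
    | zero => simp
    | succ k ih => intro p q; rw [pow_succ]; exact (ih (σ p) (σ q)).trans (hβ p q)
  have hrev : ∀ i, i ≤ m → ∀ q, (σ ^ i)⁻¹ q = (σ ^ (m - i)) q := by
    intro i hi q
    rw [inv_eq_of_mul_eq_one_left (a := σ ^ (m - i)) (by rw [← pow_add, Nat.sub_add_cancel hi, hσ])]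
  have hπadj : ∀ p q, β (π p) q = β p (π q) := by
    intro p q
    rw [hπ, map_prod, MonoidHom.finsetProd_apply, ← hπσ q, hπ, map_prod,
      ← prod_range_reflect (fun i => β p ((σ ^ i) (σ q)))]
    refine prod_congr rfl fun i hi => ?_
    rw [mem_range] at hi
    rw [← hβk i p ((σ ^ (m - 1 - i)) (σ q))]
    congr 1
    show q = (σ ^ i * σ ^ (m - 1 - i) * σ) q
    rw [← pow_add, show i + (m - 1 - i) = 2 * h by omega, ← pow_succ, ← hm, hσ]
    rfl
  -- the component of `b` in `[D, σ]`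
  set a := b * π b with ha
  have hπa : π a = 1 := by
    have e : π (π b) = π b ^ m := by
      rw [hπ]
      have : ∀ i, (σ ^ i) (π b) = π b := by
        intro i
        induction i with
        | zero => rfl
        | succ i ih => rw [pow_succ']; show σ ((σ ^ i) (π b)) = π b; rw [ih, hσπ]
      simp [this]
    rw [ha, map_mul, e, ← pow_succ', show m + 1 = 2 * (h + 1) by omega, pow_mul, pow_two, hD, one_pow]
  have hτσ : ∀ i q, τ ((σ ^ i) q) = (σ ^ i)⁻¹ (τ q) := by
    intro i q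
    have e : τ * σ ^ i = (σ ^ i)⁻¹ * τ := by
      rw [← inv_pow, ← hτ, ← MulAut.conj_apply τ σ, ← map_pow, MulAut.conj_apply, inv_mul_cancel_right]
    exact DFunLike.congr_fun e q
  have hτπ : τ (π b) = π b := by
    rw [hπ, map_prod]
    rw [show (∏ i ∈ range m, τ ((σ ^ i) b)) = ∏ i ∈ range m, (σ ^ (m - 1 - i)) (σ b) from
      prod_congr rfl fun i hi => by
        rw [mem_range] at hi
        rw [hτσ, hb, hrev i hi.le]
        show _ = (σ ^ (m - 1 - i) * σ) b
        rw [← pow_succ, show m - 1 - i + 1 = m - i by omega],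
      prod_range_reflect (fun i => (σ ^ i) (σ b))]
    exact hπσ b
  set p₀ := ∏ i ∈ range h, (σ ^ (i + 1)) a with hp₀
  have hπp₀ : π p₀ = 1 := by rw [hp₀, map_prod]; simp [hπσk, hπa]
  have hp₀a : p₀ * τ p₀ = a := by
    have e : π a = a * (p₀ * ∏ j ∈ range h, (σ ^ (h + 1 + j)) a) := by
      rw [hπ, show m = (h + 1) + h by omega, prod_range_add, prod_range_succ', hp₀]
      simp only [pow_zero, MulAut.one_apply]
      rw [mul_comm (∏ i ∈ range h, (σ ^ (i + 1)) a) a, mul_assoc]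
    have e2 : τ p₀ = ∏ j ∈ range h, (σ ^ (h + 1 + j)) a := by
      rw [hp₀, map_prod, ← prod_range_reflect (fun j => (σ ^ (h + 1 + j)) a)]
      refine prod_congr rfl fun i hi => ?_
      rw [mem_range] at hi
      have hτa : τ a = a := by rw [ha, map_mul, hb, hτπ]
      rw [hτσ, hτa, hrev (i + 1) (by omega)]
      congr 2
      omega
    rw [← e2, hπa] at e
    exact (mul_eq_one_iff_eq_inv.mp e.symm).trans
      (inv_eq_of_mul_eq_one_right (hD _)) |>.symm
  have hbp₀ : β b p₀ = 1 := by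
    have e : b = a * π b := by rw [ha, mul_assoc, hD, mul_one]
    rw [e, map_mul, MonoidHom.mul_apply, hπadj, hπp₀, map_one, mul_one, ← hp₀a]
    exact h2 p₀
  have hbfix : σ b = b := by
    have : a = 1 := by rw [← hp₀a, h1 p₀ hbp₀, hD]
    have e : b = π b := by
      calc b = b * π b * π b := by rw [mul_assoc, hD, mul_one]
        _ = π b := by rw [← ha, this, one_mul]
    exact (congrArg σ e).trans ((hσπ b).trans e.symm)
  -- every `σ p * p` is fixed by `τ`
  have hfix : ∀ p, τ (σ p * p) = σ p * p := fun p => h1 _ (by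
    rw [map_mul, show β b (σ p) = β b p by conv_lhs => rw [← hbfix]; rw [hβ], ← map_mul, hD, map_one])
  refine MulEquiv.ext fun p => ?_
  have hsq : ∀ s, τ s = s → τ (σ s) = σ s → σ (σ s) = s := by
    intro s hs hs'
    have := hτσ 1 s
    rw [pow_one, hs', hs] at this
    rw [this]
    exact σ.apply_symm_apply s
  have hσσ : σ (σ (σ p * p)) = σ p * p := hsq _ (hfix p) (by
    have := hfix (σ p); rw [← map_mul] at this; exact this)
  have hσfix : σ (σ p * p) = σ p * p := by
    have e : ∀ k : ℕ, (σ ^ (2 * k)) (σ p * p) = σ p * p := by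
      intro k
      induction k with
      | zero => rfl
      | succ k ih => rw [Nat.mul_succ, pow_add, MulAut.mul_apply, pow_two, MulAut.mul_apply, hσσ, ih]
    have := e (h + 1)
    rw [show 2 * (h + 1) = 1 + m by omega, pow_add, hσ, mul_one, pow_one] at this
    exact this
  have e2 : σ (σ p) = p := by
    rw [map_mul] at hσfix
    have : σ (σ p) * σ p = p * σ p := by rw [hσfix, mul_comm]
    exact mul_right_cancel this
  have e : ∀ k : ℕ, (σ ^ (2 * k)) p = p := by
    intro k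
    induction k with
    | zero => rfl
    | succ k ih => rw [Nat.mul_succ, pow_add, MulAut.mul_apply, pow_two, MulAut.mul_apply, e2, ih]
  have := e (h + 1)
  rw [show 2 * (h + 1) = 1 + m by omega, pow_add, hσ, mul_one, pow_one] at this
  exact this

variable {G : Type*} [Group G] [Finite G]

/-- Conjugation by `C(A)` on `PP A / A`. -/
theorem stab_of_inverted {A B : Subgroup G} (hAB : Into A B) {x c : G}
    (hx : x ∈ centralizer (A : Set G)) (hc : c ∈ centralizer (A : Set G)) (hx2 : x * x = 1)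
    (hxE : ∀ e ∈ PP A, (∀ b ∈ B, e * b = b * e) → x * e = e * x) (hinv : x * c * x⁻¹ = c⁻¹)
    (hodd : Odd (orderOf c)) : ∀ p ∈ PP A, c * p * c⁻¹ * p⁻¹ ∈ A := by
  have h := hAB.hyp
  set P := PP A with hP
  set A' : Subgroup ↥P := A.subgroupOf P with hA'
  haveI : A'.Normal := ⟨fun a ha q => show (q : G) * a * (q : G)⁻¹ ∈ A from
      TI.conj_mem_of_mem_normalizer (Hyp.PP_le_normalizer q.2) ha⟩
  letI : CommGroup (↥P ⧸ A') :=
    { (inferInstance : Group (↥P ⧸ A')) with
      mul_comm := by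
        intro u v
        obtain ⟨u, rfl⟩ := QuotientGroup.mk'_surjective A' u
        obtain ⟨v, rfl⟩ := QuotientGroup.mk'_surjective A' v
        rw [← map_mul, ← map_mul]
        refine (QuotientGroup.eq).mpr ?_
        show ((u : G) * v)⁻¹ * ((v : G) * u) ∈ A
        have := h.commutator_mem (inv_mem v.2) (inv_mem u.2)
        convert this using 1
        group }
  letI : CommGroup ↥A := { (inferInstance : Group ↥A) with mul_comm := fun u v => Subtype.ext (h.comm u u.2 v v.2) }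
  let cC : ∀ y : G, y ∈ centralizer (A : Set G) → MulAut (↥P ⧸ A') := fun y hy =>
    QuotientGroup.congr A' A'
      { toFun := fun p => ⟨y * p * y⁻¹, Hyp.conj_mem_PP (Subgroup.centralizer_le_normalizer _ hy) p.2⟩
        invFun := fun p => ⟨y⁻¹ * p * y, by
          simpa using Hyp.conj_mem_PP (inv_mem (Subgroup.centralizer_le_normalizer _ hy)) p.2⟩
        left_inv := fun p => Subtype.ext (by group)
        right_inv := fun p => Subtype.ext (by group)
        map_mul' := fun p q => Subtype.ext (by simp only [Subgroup.coe_mul]; group) }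
      (by
        have hyN := Subgroup.centralizer_le_normalizer _ hy
        ext p
        constructor
        · rintro ⟨q, hq, rfl⟩
          exact show y * (q : G) * y⁻¹ ∈ A from TI.conj_mem_of_mem_normalizer hyN hq
        · intro hp
          refine ⟨⟨y⁻¹ * p * y, by simpa using Hyp.conj_mem_PP (inv_mem hyN) p.2⟩,
            show y⁻¹ * (p : G) * y ∈ A by simpa using TI.conj_mem_of_mem_normalizer (inv_mem hyN) hp,
            Subtype.ext ?_⟩
          show y * (y⁻¹ * p * y) * y⁻¹ = (p : G)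
          group)
  let ρ : ↥(centralizer (A : Set G)) →* MulAut (↥P ⧸ A') := MonoidHom.mk' (fun y => cC y y.2) fun y z => by
    refine MulEquiv.ext fun u => ?_
    obtain ⟨u, rfl⟩ := QuotientGroup.mk'_surjective A' u
    refine congrArg (QuotientGroup.mk' A') (Subtype.ext ?_)
    show (y : G) * z * u * ((y : G) * z)⁻¹ = y * (z * u * (z : G)⁻¹) * (y : G)⁻¹
    group
  have hρ : ∀ (y : ↥(centralizer (A : Set G))) (p : ↥P),
      ρ y (QuotientGroup.mk' A' p) = QuotientGroup.mk' A'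
        ⟨y * p * (y : G)⁻¹, Hyp.conj_mem_PP (Subgroup.centralizer_le_normalizer _ y.2) p.2⟩ :=
    fun y p => rfl
  -- the commutator pairing
  let β0 : ↥P → ↥P → ↥A := fun p q => ⟨p * q * (p : G)⁻¹ * (q : G)⁻¹, h.commutator_mem p.2 q.2⟩
  have hcen : ∀ a ∈ A, ∀ p ∈ P, p * a * p⁻¹ = a := fun a ha p hp => by
    rw [← Hyp.comm_PP hp ha, mul_inv_cancel_right]
  have hβr : ∀ p q q', β0 p (q * q') = β0 p q * β0 p q' := fun p q q' => Subtype.ext <| by
    show (p : G) * (q * q') * (p : G)⁻¹ * ((q : G) * q')⁻¹ =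
      p * q * (p : G)⁻¹ * (q : G)⁻¹ * (p * q' * (p : G)⁻¹ * (q' : G)⁻¹)
    rw [← hcen _ (h.commutator_mem p.2 q'.2) q q.2]
    group
  have hβl : ∀ p p' q, β0 (p * p') q = β0 p q * β0 p' q := fun p p' q => Subtype.ext <| by
    show (p : G) * p' * q * ((p : G) * p')⁻¹ * (q : G)⁻¹ =
      p * q * (p : G)⁻¹ * (q : G)⁻¹ * (p' * q * (p' : G)⁻¹ * (q : G)⁻¹)
    rw [h.comm _ (h.commutator_mem p.2 q.2) _ (h.commutator_mem p'.2 q.2)]
    have := hcen _ (h.commutator_mem p'.2 q.2) p p.2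
    calc (p : G) * p' * q * ((p : G) * p')⁻¹ * (q : G)⁻¹
        = p * (p' * q * (p' : G)⁻¹ * (q : G)⁻¹) * (p : G)⁻¹ * (p * q * (p : G)⁻¹ * (q : G)⁻¹) := by group
      _ = _ := by rw [this]
  have hβ1 : ∀ p, ∀ a : ↥P, (a : G) ∈ A → β0 p a = 1 ∧ β0 a p = 1 := fun p a ha =>
    ⟨Subtype.ext (by show (p : G) * a * (p : G)⁻¹ * (a : G)⁻¹ = 1; rw [hcen a ha p p.2]; group),
     Subtype.ext (by show (a : G) * p * (a : G)⁻¹ * (p : G)⁻¹ = 1; rw [Hyp.comm_PP p.2 ha]; group)⟩
  let β1 : ↥P → (↥P ⧸ A') →* ↥A := fun p =>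
    QuotientGroup.lift A' (MonoidHom.mk' (β0 p) (hβr p)) fun a ha => (hβ1 p a ha).1
  let β : (↥P ⧸ A') →* (↥P ⧸ A') →* ↥A :=
    QuotientGroup.lift A' (MonoidHom.mk' β1 fun p p' => MonoidHom.ext fun u => by
      obtain ⟨u, rfl⟩ := QuotientGroup.mk'_surjective A' u
      exact hβl p p' u) fun a ha => MonoidHom.mem_ker.mpr <| MonoidHom.ext fun u => by
      obtain ⟨u, rfl⟩ := QuotientGroup.mk'_surjective A' u
      exact (hβ1 u a ha).2
  obtain ⟨k, hk⟩ := hodd
  obtain ⟨⟨b₀, hb₀⟩, hb₀1⟩ : ∃ b : ↥B, (b : G) ≠ 1 := Into.exists_partner.exists_ne_one_of_ne_bot hAB.hypB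
  have hxb : x * b₀ * x⁻¹ = b₀ := by
    rw [hxE b₀ (hAB.le hb₀) fun b hb => hAB.hypB.comm b₀ hb₀ b hb, mul_inv_cancel_right]
  have key := inverted_trivial (ρ ⟨c, hc⟩) (ρ ⟨x, hx⟩) (h := k)
    (by
      rw [← map_pow, show (⟨c, hc⟩ : ↥(centralizer (A : Set G))) ^ (2 * k + 1) = 1 from
        Subtype.ext (by rw [SubgroupClass.coe_pow, ← hk, pow_orderOf_eq_one]; rfl), map_one])
    (by
      rw [← map_mul, ← map_inv, ← map_mul, ← map_inv]
      exact congrArg ρ (Subtype.ext hinv))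
    (fun u => by
      obtain ⟨u, rfl⟩ := QuotientGroup.mk'_surjective A' u
      rw [← map_mul]
      exact (QuotientGroup.eq_one_iff (N := A') (u * u)).mpr (h.sq_mem u.2))
    β
    (fun u v => by
      obtain ⟨u, rfl⟩ := QuotientGroup.mk'_surjective A' u
      obtain ⟨v, rfl⟩ := QuotientGroup.mk'_surjective A' v
      refine Subtype.ext ?_
      show c * u * c⁻¹ * (c * v * c⁻¹) * (c * (u : G) * c⁻¹)⁻¹ * (c * (v : G) * c⁻¹)⁻¹ =
        (u : G) * v * (u : G)⁻¹ * (v : G)⁻¹
      calc _ = c * ((u : G) * v * (u : G)⁻¹ * (v : G)⁻¹) * c⁻¹ := by group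
        _ = _ := by rw [← mem_centralizer_iff.mp hc _ (h.commutator_mem u.2 v.2), mul_inv_cancel_right])
    (QuotientGroup.mk' A' ⟨b₀, hAB.le hb₀⟩)
    (by rw [hρ]; exact congrArg _ (Subtype.ext hxb))
    (fun u hu => by
      obtain ⟨u, rfl⟩ := QuotientGroup.mk'_surjective A' u
      rw [hρ]
      refine congrArg _ (Subtype.ext ?_)
      have hu' : b₀ * u * b₀⁻¹ * (u : G)⁻¹ = 1 := congrArg Subtype.val hu
      have hcomm : b₀ * u = u * b₀ := mul_inv_eq_iff_eq_mul.mp (mul_inv_eq_one.mp hu')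
      have huN : (u : G) ∈ normalizer (B : Set G) := hAB.hypB.mem_normalizer_of_commute hb₀ hb₀1 hcomm.symm
      show x * u * x⁻¹ = u
      rw [hxE u u.2 fun b hb => ?_, mul_inv_cancel_right]
      refine mul_inv_eq_one.mp (hAB.disjoint (a := (u : G) * b * (b * u)⁻¹) ?_ ?_)
      · rw [mul_inv_rev, ← mul_assoc]
        exact mul_mem (TI.conj_mem_of_mem_normalizer huN hb) (inv_mem hb)
      · rw [mul_inv_rev, ← mul_assoc]
        exact h.commutator_mem u.2 (hAB.le hb))
    (fun u => by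
      obtain ⟨u, rfl⟩ := QuotientGroup.mk'_surjective A' u
      rw [hρ, ← map_mul]
      refine Subtype.ext ?_
      have huP := u.2
      have hxi : x⁻¹ = x := inv_eq_of_mul_eq_one_right hx2
      have hy : x * u * x⁻¹ ∈ P := Hyp.conj_mem_PP (Subgroup.centralizer_le_normalizer _ hx) huP
      set w := (u : G)⁻¹ * (x * u * x⁻¹) with hw
      have hwP : w ∈ P := mul_mem (inv_mem huP) hy
      -- `w` centralises `B`, hence is fixed by `x`, hence `w * w = 1`
      have hwB : ∀ b ∈ B, w * b = b * w := by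
        intro b hb
        have hxb : x * b * x⁻¹ = b := by
          rw [hxE b (hAB.le hb) fun b' hb' => hAB.hypB.comm b hb b' hb', mul_inv_cancel_right]
        have hl := h.commutator_mem huP (hAB.le hb)
        have e : x * u * x⁻¹ * b * (x * u * x⁻¹)⁻¹ = u * b * (u : G)⁻¹ := by
          calc x * u * x⁻¹ * b * (x * u * x⁻¹)⁻¹ = x * u * x⁻¹ * (x * b * x⁻¹) * (x * u * x⁻¹)⁻¹ := by rw [hxb]
            _ = x * (u * b * (u : G)⁻¹ * b⁻¹) * x⁻¹ * (x * b * x⁻¹) := by group
            _ = (u * b * (u : G)⁻¹ * b⁻¹) * b := by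
              rw [hxb, ← mem_centralizer_iff.mp hx _ hl, mul_inv_cancel_right]
            _ = u * b * (u : G)⁻¹ := by group
        refine mul_inv_eq_iff_eq_mul.mp ?_
        calc w * b * w⁻¹ = (u : G)⁻¹ * (x * u * x⁻¹ * b * (x * u * x⁻¹)⁻¹) * u := by rw [hw]; group
          _ = b := by rw [e]; group
      have hxw : x * w * x⁻¹ = w := by rw [hxE w hwP hwB, mul_inv_cancel_right]
      have hwi : x * w * x⁻¹ = w⁻¹ := by
        calc x * w * x⁻¹ = (x * (u : G) * x⁻¹)⁻¹ * (x * (x * u * x⁻¹) * x⁻¹) := by rw [hw]; group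
          _ = (x * (u : G) * x⁻¹)⁻¹ * (x * x * u * (x * x)⁻¹) := by group
          _ = w⁻¹ := by rw [hx2, hw]; group
      have hw2 : w * w = 1 := mul_eq_one_iff_eq_inv.mpr (hxw.symm.trans hwi)
      have hsq : (x * u * x⁻¹) * (x * u * x⁻¹) = (u : G) * u := by
        calc (x * u * x⁻¹) * (x * u * x⁻¹) = x * ((u : G) * u) * x⁻¹ := by group
          _ = _ := by rw [← mem_centralizer_iff.mp hx _ (h.sq_mem huP), mul_inv_cancel_right]
      -- so `[u, w] = 1`, hence `[u * xux⁻¹, u] = 1`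
      have hwu : w * u = u * w := by
        have e1 : (u : G) * w * (u * w) = u * u := by
          rw [hw, show (u : G) * ((u : G)⁻¹ * (x * u * x⁻¹)) = x * u * x⁻¹ by group, hsq]
        have e2 : (u : G) * (w * u * w) = u * u := by rw [← e1]; group
        have e3 := mul_left_cancel e2
        calc w * u = w * u * (w * w) := by rw [hw2, mul_one]
          _ = w * u * w * w := by group
          _ = u * w := by rw [e3]
      show (u : G) * (x * u * x⁻¹) * u * ((u : G) * (x * u * x⁻¹))⁻¹ * (u : G)⁻¹ = 1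
      have e4 : x * u * x⁻¹ = u * w := by rw [hw]; group
      rw [e4]
      calc (u : G) * (u * w) * u * ((u : G) * (u * w))⁻¹ * (u : G)⁻¹
          = u * u * (w * u) * w⁻¹ * (u : G)⁻¹ * (u : G)⁻¹ * (u : G)⁻¹ := by group
        _ = 1 := by rw [hwu]; group)
  intro p hp
  have := DFunLike.congr_fun key (QuotientGroup.mk' A' ⟨p, hp⟩)
  rw [hρ] at this
  have h2 := (QuotientGroup.eq (s := A')).mp this.symm
  have h3 : p⁻¹ * (c * p * c⁻¹) ∈ A := h2
  have h4 := TI.conj_mem_of_mem_normalizer (Hyp.PP_le_normalizer hp) h3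
  convert h4 using 1
  group

/-- **The criterion.** -/
theorem mem_PP_of_involution {A B : Subgroup G} (hAB : Into A B) {x : G}
    (hx : x ∈ centralizer (A : Set G)) (hx2 : x * x = 1)
    (hxE : ∀ e ∈ PP A, (∀ b ∈ B, e * b = b * e) → x * e = e * x) : x ∈ PP A := by
  haveI : Fact (Nat.Prime 2) := ⟨Nat.prime_two⟩
  set N := normalizer (A : Set G)
  set C' : Subgroup ↥N := (centralizer (A : Set G)).subgroupOf N with hC'
  have hC'n : C'.Normal := ⟨fun c hc m => Hyp.conj_mem_centralizer m.2 hc⟩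
  have hxN := Subgroup.centralizer_le_normalizer _ hx
  let x' : ↥C' := ⟨⟨x, hxN⟩, hx⟩
  have hbs := Involution.baer_suzuki (p := 2) x' fun g => by
    set y : ↥C' := g * x' * g⁻¹ with hy
    have hx'2 : x' * x' = 1 := Subtype.ext (Subtype.ext hx2)
    have hy2 : y * y = 1 := by
      rw [hy, show g * x' * g⁻¹ * (g * x' * g⁻¹) = g * (x' * x') * g⁻¹ by group, hx'2]; group
    obtain ⟨a, m, hm, hn⟩ := Nat.exists_eq_pow_mul_and_not_dvd (orderOf_pos (x' * y)).ne' 2 (by norm_num)
    refine Involution.isPGroup_closure_pair hx'2 hy2 (a := a) ?_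
    set c : ↥C' := (x' * y) ^ (2 ^ a) with hc
    have hoc : Odd (orderOf c) := by
      rw [hc, orderOf_pow_of_dvd (by positivity) ⟨m, hn⟩, hn, Nat.mul_div_cancel_left _ (by positivity)]
      exact Nat.odd_iff.mpr (Nat.two_dvd_ne_zero.mp hm)
    have hinv : x' * c * x'⁻¹ = c⁻¹ := by
      rw [hc, ← conj_pow, Involution.invol_conj_mul hx'2 hy2, inv_pow]
    have hcG : orderOf ((c : ↥N) : G) = orderOf c := by rw [orderOf_coe, orderOf_coe]
    have hcmem : ((c : ↥N) : G) ∈ PP A := hAB.hyp.mem_PP_of_stab c.2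
      (stab_of_inverted hAB hx c.2 hx2 hxE (congrArg (fun z : ↥C' => ((z : ↥N) : G)) hinv) (hcG ▸ hoc))
    obtain ⟨j, hj⟩ := (Hyp.isPGroup_PP (A := A)) ⟨_, hcmem⟩
    have hdvd : orderOf c ∣ 2 ^ j := hcG ▸ orderOf_dvd_of_pow_eq_one (congrArg Subtype.val hj)
    rw [← orderOf_eq_one_iff]
    obtain ⟨i, -, hi⟩ := (Nat.dvd_prime_pow Nat.prime_two).mp hdvd
    rcases i.eq_zero_or_pos with rfl | hi0
    · simpa using hi
    · rw [hi] at hoc
      exact absurd (hoc) (Nat.not_odd_iff_even.mpr (Nat.even_pow.mpr ⟨even_two, hi0.ne'⟩))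
  have h1 : x' ∈ Cfsg.pCore 2 ↥C' :=
    LocalChar.le_pCore Subgroup.normalClosure_normal hbs (Subgroup.subset_normalClosure rfl)
  exact ⟨⟨_, LocalChar.map_pCore_le_of_normal hC'n ⟨x', h1, rfl⟩, rfl⟩, hx⟩

end Cfsg.Agent.LargeTI
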