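import Cfsg.Agent.Lib.LargeTI.Symmetric
import Cfsg.Agent.Lib.TI.Semifield

/-!
# The field on a mutual pair of TI subgroups

* `exists_field_of_pairing`: a non-degenerate pairing between groups of equal order, closed under
  `(L₁,L₂) ↦ L₁ L₂⁻¹ L₁` on both sides, is the multiplication of a finite field.
* `Into.quad`: the commutator pairing of a mutual pair is closed in that sense.
-/

set_option autoImplicit false

namespace Cfsg.Agent.LargeTI

open Subgroup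

theorem exists_field_of_pairing {X Y D : Type*} [AddCommGroup X] [AddCommGroup Y] [AddCommGroup D]
    [Finite X] [Finite Y] [Finite D] (μ : X →+ Y →+ D) (hD : ∀ v : D, v + v = 0)
    (hcX : Nat.card X = Nat.card D) (hcY : Nat.card Y = Nat.card D) (hne : ∃ v : D, v ≠ 0)
    (hnz : ∀ x y, μ x y = 0 → x = 0 ∨ y = 0)
    (hql : ∀ x₁ x₂, x₁ ≠ 0 → x₂ ≠ 0 → ∃ x₃, ∀ y y', μ x₁ y = μ x₂ y' → μ x₃ y = μ x₁ y')
    (hqr : ∀ y₁ y₂, y₁ ≠ 0 → y₂ ≠ 0 → ∃ y₃, ∀ x x', μ x y₁ = μ x' y₂ → μ x y₃ = μ x' y₁) :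
    ∃ (F : Type) (_ : Field F) (_ : Fintype F) (eX : F ≃+ X) (eY : F ≃+ Y) (eD : F ≃+ D),
      ∀ a b, μ (eX a) (eY b) = eD (a * b) := by
  classical
  obtain ⟨v₀, hv₀⟩ := hne
  have h1 : 1 < Nat.card D := Finite.one_lt_card_iff_nontrivial.mpr ⟨⟨v₀, 0, hv₀⟩⟩
  haveI : Nontrivial X := Finite.one_lt_card_iff_nontrivial.mp (hcX ▸ h1)
  haveI : Nontrivial Y := Finite.one_lt_card_iff_nontrivial.mp (hcY ▸ h1)
  obtain ⟨x₀, hx₀⟩ := exists_ne (0 : X)
  obtain ⟨y₀, hy₀⟩ := exists_ne (0 : Y)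
  -- left and right multiplications
  have hL : ∀ x, x ≠ 0 → Function.Bijective (μ x) := fun x hx =>
    (Nat.bijective_iff_injective_and_card _).mpr
      ⟨(injective_iff_map_eq_zero _).mpr fun y h => (hnz x y h).resolve_left hx, hcY⟩
  have hR : ∀ y, y ≠ 0 → Function.Bijective (μ.flip y) := fun y hy =>
    (Nat.bijective_iff_injective_and_card _).mpr
      ⟨(injective_iff_map_eq_zero _).mpr fun x h => (hnz x y h).resolve_right hy, hcX⟩
  let L : Y ≃+ D := AddEquiv.ofBijective (μ x₀) (hL x₀ hx₀)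
  let R : X ≃+ D := AddEquiv.ofBijective (μ.flip y₀) (hR y₀ hy₀)
  let m : D →+ D →+ D := AddMonoidHom.mk' (fun v => (μ (R.symm v)).comp L.symm.toAddMonoidHom) fun v w => by
    ext z; simp
  have hm : ∀ v w, m v w = μ (R.symm v) (L.symm w) := fun v w => rfl
  have hLe : L.symm (μ x₀ y₀) = y₀ := L.symm_apply_eq.mpr rfl
  have hRe : R.symm (μ x₀ y₀) = x₀ := R.symm_apply_eq.mpr rfl
  have hone : ∀ w, m (μ x₀ y₀) w = w := fun w => by rw [hm, hRe]; exact L.apply_symm_apply w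
  have hone' : ∀ v, m v (μ x₀ y₀) = v := fun v => by rw [hm, hLe]; exact R.apply_symm_apply v
  have hcond : ∀ x y z, m (m x (m y x)) z = m x (m y (m x z)) := by
    intro x y z
    by_cases hx : R.symm x = 0
    · simp [hm, hx]
    by_cases hy : R.symm y = 0
    · simp [hm, hy]
    obtain ⟨x', hx'⟩ := hql x₀ (R.symm y) hx₀ hy
    have hx'0 : x' ≠ 0 := by
      intro e
      obtain ⟨w', hw'⟩ := (hL x₀ hx₀).2 v₀
      obtain ⟨w, hw⟩ := (hL x₀ hx₀).2 (μ (R.symm y) w')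
      have := hx' w w' hw
      rw [e, hw', map_zero] at this
      exact hv₀ (by simpa using this.symm)
    obtain ⟨x'', hx''⟩ := hql (R.symm x) x' hx hx'0
    have key : ∀ w, μ x'' (L.symm w) = m x (m y (m x w)) := by
      intro w
      set w₁ := L.symm (m y (m x w)) with hw₁
      set w₂ := L.symm (m x w) with hw₂
      have e1 : μ x₀ w₁ = μ (R.symm y) w₂ := (L.apply_symm_apply _)
      have e2 := hx' w₁ w₂ e1
      have e3 : μ (R.symm x) (L.symm w) = μ x' w₁ := by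
        rw [e2]; exact (L.apply_symm_apply _).symm
      exact hx'' _ _ e3
    have : R x'' = m x (m y x) := by
      conv_rhs => arg 2; arg 2; rw [← hone' x]
      rw [← key, hLe]
      rfl
    rw [← key, hm (m x (m y x)), ← this, R.symm_apply_apply]
  have hcond' : ∀ x y z, m z (m (m x y) x) = m (m (m z x) y) x := by
    intro x y z
    by_cases hx : L.symm x = 0
    · simp [hm, hx]
    by_cases hy : L.symm y = 0
    · simp [hm, hy]
    obtain ⟨y', hy'⟩ := hqr y₀ (L.symm y) hy₀ hy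
    have hy'0 : y' ≠ 0 := by
      intro e
      obtain ⟨w', hw'⟩ := (hR y₀ hy₀).2 v₀
      obtain ⟨w, hw⟩ := (hR y₀ hy₀).2 (μ w' (L.symm y))
      have := hy' w w' hw
      rw [e, map_zero] at this
      exact hv₀ (by rw [← hw']; exact this.symm)
    obtain ⟨y'', hy''⟩ := hqr (L.symm x) y' hx hy'0
    have key : ∀ w, μ (R.symm w) y'' = m (m (m w x) y) x := by
      intro w
      set w₁ := R.symm (m (m w x) y) with hw₁
      set w₂ := R.symm (m w x) with hw₂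
      have e1 : μ w₁ y₀ = μ w₂ (L.symm y) := (R.apply_symm_apply _)
      have e2 := hy' w₁ w₂ e1
      have e3 : μ (R.symm w) (L.symm x) = μ w₁ y' := by
        rw [e2]; exact (R.apply_symm_apply _).symm
      exact hy'' _ _ e3
    have : L y'' = m (m x y) x := by
      conv_rhs => arg 1; arg 2; arg 1; arg 2; rw [← hone x]
      rw [← key, hRe]
      rfl
    rw [← key, hm z, ← this, L.symm_apply_apply]
  obtain ⟨F, _, _, f, -, hf⟩ := TI.exists_field_of_bolProduct (m := m) (e := μ x₀ y₀)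
    { ne := fun e => (hnz x₀ y₀ e).elim hx₀ hy₀
      char2 := hD
      one_mul := hone
      mul_one := hone'
      noZero := fun v w h => (hnz _ _ h).imp
        (fun h => by simpa using congrArg R h) (fun h => by simpa using congrArg L h)
      lbol := hcond
      rbol := hcond' }
  exact ⟨F, inferInstance, inferInstance, f.trans R.symm, f.trans L.symm, f, fun a b => (hf a b).symm⟩

variable {G : Type*} [Group G] [Finite G]

namespace Into

variable {A B : Subgroup G} (h : Into A B)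
include h

theorem eq_of_mul_eq {a a' b b' : G} (ha : a ∈ A) (ha' : a' ∈ A) (hb : b ∈ B) (hb' : b' ∈ B)
    (e : a * b = a' * b') : a = a' ∧ b = b' := by
  have h1 : a'⁻¹ * a = b' * b⁻¹ := by
    calc a'⁻¹ * a = a'⁻¹ * (a * b) * b⁻¹ := by group
      _ = b' * b⁻¹ := by rw [e]; group
  have h2 := h.disjoint (mul_mem hb' (inv_mem hb)) (h1 ▸ mul_mem (inv_mem ha') ha)
  exact ⟨(inv_mul_eq_one.mp (h1.trans h2)).symm, (mul_inv_eq_one.mp h2).symm⟩

theorem commutator_mem_A {p b : G} (hp : p ∈ PP A) (hb : b ∈ B) : p * b * p⁻¹ * b⁻¹ ∈ A :=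
  h.hyp.commutator_mem hp (h.le hb)

theorem conj_inv_eq {p b : G} (hp : p ∈ PP A) (hb : b ∈ B) :
    p⁻¹ * b * p = p * b * p⁻¹ * b⁻¹ * b := by
  have h1 := h.commutator_mem_A hp hb
  set a := p * b * p⁻¹ * b⁻¹ with ha
  have e : p * a * p⁻¹ = a := by rw [← Hyp.comm_PP hp h1, mul_inv_cancel_right]
  calc p⁻¹ * b * p = p⁻¹ * (a * (p * a * p⁻¹) * b) * p := by rw [e, h.hyp.sq a h1, one_mul]
    _ = p⁻¹ * a * p * a * (p⁻¹ * b * p) := by group
    _ = a * (a * (p⁻¹ * b * p)) := by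
      rw [show p⁻¹ * a * p = a by rw [mul_assoc, Hyp.comm_PP hp h1, inv_mul_cancel_left], mul_assoc]
    _ = a * (p⁻¹ * (a * b) * p) := by
      rw [show p⁻¹ * (a * b) * p = a * (p⁻¹ * b * p) by
        nth_rw 2 [← show p⁻¹ * a * p = a by rw [mul_assoc, Hyp.comm_PP hp h1, inv_mul_cancel_left]]
        group]
    _ = a * b := by rw [ha]; group

/-- If `p` does not centralise `B` then some `r ∈ PP B` induces the inverse map. -/
theorem exists_inverse (h' : Into B A) {p : G} (hp : p ∈ PP A) (hpB : ¬ ∀ b ∈ B, p * b = b * p) :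
    ∃ r ∈ PP B, cj r A = cj p B ∧
      ∀ b ∈ B, r * (p * b * p⁻¹ * b⁻¹) * r⁻¹ * (p * b * p⁻¹ * b⁻¹)⁻¹ = b := by
  have hne : cj p B ≠ B := by
    intro e
    refine hpB fun b hb => mul_inv_eq_iff_eq_mul.mp (mul_inv_eq_one.mp
      (h.disjoint (a := p * b * p⁻¹ * b⁻¹) ?_ (h.commutator_mem_A hp hb)))
    exact mul_mem (TI.conj_mem_of_mem_normalizer (TI.mem_normalizer_iff_conj_eq.mpr e) hb) (inv_mem hb)
  obtain ⟨⟨b₀, hb₀⟩, hb₀1⟩ := Into.exists_partner.exists_ne_one_of_ne_bot h.hypB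
  obtain ⟨x, hx⟩ := h.conj
  obtain ⟨r, hr, e⟩ := (h'.eq_of_le_sup (Z := cj p B) ⟨p, rfl⟩ (conj_mem_cj p hb₀)
    (fun e => hb₀1 (conj_eq_one_iff.mp e)) (by
      rw [show p * b₀ * p⁻¹ = p * b₀ * p⁻¹ * b₀⁻¹ * b₀ by group]
      exact mul_mem (mem_sup_right (h.commutator_mem_A hp hb₀)) (mem_sup_left hb₀))).resolve_left hne
  refine ⟨r, hr, e.symm, fun b hb => ?_⟩
  obtain ⟨a, ha, ha'⟩ : p * b * p⁻¹ ∈ cj r A := e ▸ conj_mem_cj p hb
  change r * a * r⁻¹ = p * b * p⁻¹ at ha'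
  have h1 : r * a * r⁻¹ * a⁻¹ ∈ B := h'.commutator_mem_A hr ha
  obtain ⟨e1, e2⟩ := h.eq_of_mul_eq ha (h.commutator_mem_A hp hb) h1 hb (by
    rw [h.comm a ha _ h1, show r * a * r⁻¹ * a⁻¹ * a = r * a * r⁻¹ by group, ha']; group)
  rw [← e1]
  exact e2

/-- The closure property of the maps `b ↦ [p, b]`. -/
theorem quad (h' : Into B A) {p p' : G} (hp : p ∈ PP A) (hp' : p' ∈ PP A)
    (hp'B : ¬ ∀ b ∈ B, p' * b = b * p') :
    ∃ q ∈ PP A, ∀ b ∈ B, ∀ b' ∈ B, p * b * p⁻¹ * b⁻¹ = p' * b' * p'⁻¹ * b'⁻¹ →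
      q * b * q⁻¹ * b⁻¹ = p * b' * p⁻¹ * b'⁻¹ := by
  by_cases hpB : ∀ b ∈ B, p * b = b * p
  · refine ⟨1, one_mem _, fun b hb b' hb' _ => ?_⟩
    rw [hpB b' hb']
    simp
  obtain ⟨r, hr, hrp, hψ⟩ := h.exists_inverse h' hp hpB
  obtain ⟨r', hr', -, hψ'⟩ := h.exists_inverse h' hp' hp'B
  have hq : r⁻¹ * (p * r' * p⁻¹) * r ∈ PP A := by
    have h1 : p * r' * p⁻¹ ∈ PP (cj r A) := by rw [hrp, PP_cj]; exact conj_mem_cj p hr'
    rw [PP_cj] at h1
    exact mem_cj.mp h1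
  refine ⟨_, hq, fun b hb b' hb' e => ?_⟩
  set q := r⁻¹ * (p * r' * p⁻¹) * r with hqdef
  set x := p * b * p⁻¹ * b⁻¹ with hx
  set y := p * b' * p⁻¹ * b'⁻¹ with hy
  have hxA := h.commutator_mem_A hp hb
  have hyA := h.commutator_mem_A hp hb'
  have e1 : r * b * r⁻¹ = b := by rw [← Hyp.comm_PP hr hb, mul_inv_cancel_right]
  have e2 : p⁻¹ * b * p = x * b := by rw [h.conj_inv_eq hp hb]
  have e3 : r' * x * r'⁻¹ = b' * x := by
    have := hψ' b' hb'
    rw [← e] at this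
    nth_rw 1 [← this]
    group
  have e4 : r' * b * r'⁻¹ = b := by rw [← Hyp.comm_PP hr' hb, mul_inv_cancel_right]
  have e5 : p * x * p⁻¹ = x := by rw [← Hyp.comm_PP hp hxA, mul_inv_cancel_right]
  have e6 : r⁻¹ * y * r = b' * y := by
    have h1 := h'.conj_inv_eq hr hyA
    rw [h1, hψ b' hb']
  have e7 : ∀ c ∈ B, r⁻¹ * c * r = c := fun c hc => by
    rw [mul_assoc, Hyp.comm_PP hr hc, inv_mul_cancel_left]
  calc q * b * q⁻¹ * b⁻¹
      = r⁻¹ * (p * (r' * (p⁻¹ * (r * b * r⁻¹) * p) * r'⁻¹) * p⁻¹) * r * b⁻¹ := by rw [hqdef]; group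
    _ = r⁻¹ * (p * ((r' * x * r'⁻¹) * (r' * b * r'⁻¹)) * p⁻¹) * r * b⁻¹ := by rw [e1, e2]; group
    _ = r⁻¹ * ((p * b' * p⁻¹) * (p * x * p⁻¹) * (p * b * p⁻¹)) * r * b⁻¹ := by rw [e3, e4]; group
    _ = r⁻¹ * (y * b' * (x * x * b)) * r * b⁻¹ := by
      rw [e5, show p * b' * p⁻¹ = y * b' by rw [hy]; group, show p * b * p⁻¹ = x * b by rw [hx]; group]
      group
    _ = (r⁻¹ * y * r) * (r⁻¹ * b' * r) * (r⁻¹ * b * r) * b⁻¹ := by rw [h.hyp.sq x hxA]; group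
    _ = y * (b' * b') := by
      rw [e6, e7 b' hb', e7 b hb, ← h.comm y hyA b' hb']; group
    _ = y := by rw [h.hypB.sq b' hb', mul_one]

/-- An element of `PP A` centralising one element of `B∖1` centralises `B`. -/
theorem centralizes_of_commute {p b₀ : G} (hp : p ∈ PP A) (hb₀ : b₀ ∈ B) (hb₀1 : b₀ ≠ 1)
    (hc : p * b₀ = b₀ * p) : ∀ b ∈ B, p * b = b * p := by
  intro b hb
  have hN := h.hypB.mem_normalizer_of_commute hb₀ hb₀1 hc
  exact mul_inv_eq_iff_eq_mul.mp (mul_inv_eq_one.mp (h.disjoint (a := p * b * p⁻¹ * b⁻¹)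
    (mul_mem (TI.conj_mem_of_mem_normalizer hN hb) (inv_mem hb)) (h.commutator_mem_A hp hb)))

/-- Every map `b ↦ [p,b]` is induced from a fixed partner `U`. -/
theorem exists_rep {U : Subgroup G} (hU : Into A U)
    (hUB : ∀ u ∈ U, ∀ b ∈ B, u * b = b * u → u = 1 ∨ b = 1) {p : G} (hp : p ∈ PP A) :
    ∃ u ∈ U, ∀ b ∈ B, u * b * u⁻¹ * b⁻¹ = p * b * p⁻¹ * b⁻¹ := by
  obtain ⟨⟨b₀, hb₀⟩, hb₀1⟩ := Into.exists_partner.exists_ne_one_of_ne_bot h.hypB
  let f : ↥U → ↥A := fun u => ⟨(u : G) * b₀ * (u : G)⁻¹ * b₀⁻¹, h.commutator_mem_A (hU.le u.2) hb₀⟩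
  have hinj : Function.Injective f := by
    intro u u' e
    have e' : (u : G) * b₀ * (u : G)⁻¹ = (u' : G) * b₀ * (u' : G)⁻¹ :=
      mul_right_cancel (congrArg Subtype.val e)
    refine Subtype.ext (inv_mul_eq_one.mp
      (((hUB _ (mul_mem (inv_mem u.2) u'.2) b₀ hb₀) ?_).resolve_right hb₀1))
    calc (u : G)⁻¹ * u' * b₀ = (u : G)⁻¹ * ((u' : G) * b₀ * (u' : G)⁻¹) * u' := by group
      _ = b₀ * ((u : G)⁻¹ * u') := by rw [← e']; group
  obtain ⟨⟨u, hu⟩, hu'⟩ := ((Nat.bijective_iff_injective_and_card f).mpr ⟨hinj, hU.card_eq⟩).2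
    ⟨_, h.commutator_mem_A hp hb₀⟩
  refine ⟨u, hu, fun b hb => ?_⟩
  have e : u * b₀ * u⁻¹ = p * b₀ * p⁻¹ := mul_right_cancel (congrArg Subtype.val hu')
  have hc := h.centralizes_of_commute (mul_mem (inv_mem (hU.le hu)) hp) hb₀ hb₀1 (by
    calc u⁻¹ * p * b₀ = u⁻¹ * (p * b₀ * p⁻¹) * p := by group
      _ = b₀ * (u⁻¹ * p) := by rw [← e]; group) b hb
  have : p * b * p⁻¹ = u * b * u⁻¹ := by
    calc p * b * p⁻¹ = u * (u⁻¹ * p * b) * p⁻¹ := by group
      _ = u * b * u⁻¹ := by rw [hc]; group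
  rw [this]

end Into

end Cfsg.Agent.LargeTI
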