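import Cfsg.Agent.Lib.LargeTI.Field
import Cfsg.Agent.Lib.GL.Basic

/-!
# A mutual pair of TI subgroups spans the natural module of `SL₂(F)`
-/

set_option autoImplicit false

namespace Cfsg.Agent.LargeTI

open Subgroup Matrix

variable {G : Type*} [Group G] [Finite G]

namespace Into

variable {A B : Subgroup G} (h : Into A B)
include h

/-- The field and the coordinates of a mutual pair. -/
theorem exists_coords (h' : Into B A) :
    ∃ (F : Type) (_ : Field F) (_ : Fintype F) (α β : F → G),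
      Fintype.card F = Nat.card ↥A ∧ Function.Injective α ∧ Function.Injective β ∧
      (∀ s t, α (s + t) = α s * α t) ∧ (∀ s t, β (s + t) = β s * β t) ∧
      (∀ g, g ∈ A ↔ ∃ s, α s = g) ∧ (∀ g, g ∈ B ↔ ∃ t, β t = g) ∧
      (∀ p ∈ PP A, ∃ x : F, ∀ t, p * β t * p⁻¹ = α (x * t) * β t) ∧
      (∀ x : F, ∃ p ∈ PP A, ∀ t, p * β t * p⁻¹ = α (x * t) * β t) ∧
      (∀ r ∈ PP B, ∃ z : F, ∀ s, r * α s * r⁻¹ = β (z * s) * α s) ∧
      (∀ z : F, ∃ r ∈ PP B, ∀ s, r * α s * r⁻¹ = β (z * s) * α s) := by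
  classical
  obtain ⟨U, hU, hUB⟩ := h.exists_partner
  letI : CommGroup ↥A := { (inferInstance : Group ↥A) with mul_comm := fun u v => Subtype.ext (h.hyp.comm u u.2 v v.2) }
  letI : CommGroup ↥B := { (inferInstance : Group ↥B) with mul_comm := fun u v => Subtype.ext (h.hypB.comm u u.2 v v.2) }
  letI : CommGroup ↥U := { (inferInstance : Group ↥U) with mul_comm := fun u v => Subtype.ext (hU.hypB.comm u u.2 v v.2) }
  let c : ↥U → ↥B → ↥A := fun u b => ⟨(u : G) * b * (u : G)⁻¹ * (b : G)⁻¹, h.commutator_mem_A (hU.le u.2) b.2⟩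
  have hcen : ∀ a ∈ A, ∀ p ∈ PP A, p * a * p⁻¹ = a := fun a ha p hp => by
    rw [← Hyp.comm_PP hp ha, mul_inv_cancel_right]
  have hcr : ∀ u b b', c u (b * b') = c u b * c u b' := fun u b b' => Subtype.ext <| by
    show (u : G) * ((b : G) * b') * (u : G)⁻¹ * ((b : G) * b')⁻¹ =
      u * b * (u : G)⁻¹ * (b : G)⁻¹ * (u * b' * (u : G)⁻¹ * (b' : G)⁻¹)
    rw [← hcen _ (h.commutator_mem_A (hU.le u.2) b'.2) b (h.le b.2)]
    group
  have hcl : ∀ u u' b, c (u * u') b = c u b * c u' b := fun u u' b => Subtype.ext <| by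
    show (u : G) * u' * b * ((u : G) * u')⁻¹ * (b : G)⁻¹ =
      u * b * (u : G)⁻¹ * (b : G)⁻¹ * (u' * b * (u' : G)⁻¹ * (b : G)⁻¹)
    have h2 := h.commutator_mem_A (hU.le u'.2) b.2
    rw [h.hyp.comm _ (h.commutator_mem_A (hU.le u.2) b.2) _ h2]
    calc (u : G) * u' * b * ((u : G) * u')⁻¹ * (b : G)⁻¹
        = u * (u' * b * (u' : G)⁻¹ * (b : G)⁻¹) * (u : G)⁻¹ * (u * b * (u : G)⁻¹ * (b : G)⁻¹) := by group
      _ = _ := by rw [hcen _ h2 u (hU.le u.2)]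
  let μ : Additive ↥U →+ Additive ↥B →+ Additive ↥A :=
    AddMonoidHom.mk' (fun u => AddMonoidHom.mk'
      (fun b => Additive.ofMul (c u.toMul b.toMul)) fun b b' => congrArg Additive.ofMul (hcr _ _ _))
      fun u u' => AddMonoidHom.ext fun b => congrArg Additive.ofMul (hcl _ _ _)
  have hμ : ∀ u b, (((μ u b).toMul : ↥A) : G) =
      (u.toMul : ↥U) * (b.toMul : ↥B) * ((u.toMul : ↥U) : G)⁻¹ * ((b.toMul : ↥B) : G)⁻¹ := fun u b => rfl
  have heq : ∀ (v w : Additive ↥A), ((v.toMul : ↥A) : G) = (w.toMul : ↥A) → v = w := fun v w e => Subtype.ext e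
  have hU0 : ∀ u : Additive ↥U, u ≠ 0 → ((u.toMul : ↥U) : G) ≠ 1 := fun u hu e => hu (Subtype.ext e)
  have hB0 : ∀ b : Additive ↥B, b ≠ 0 → ((b.toMul : ↥B) : G) ≠ 1 := fun b hb e => hb (Subtype.ext e)
  obtain ⟨F, hFf, hFt, eX, eY, eD, hμe⟩ := exists_field_of_pairing μ
    (fun v => heq _ _ (h.hyp.sq _ v.toMul.2))
    hU.card_eq h.card_eq
    (by
      obtain ⟨a, ha⟩ := Into.exists_partner.exists_ne_one_of_ne_bot h.hyp
      exact ⟨Additive.ofMul a, fun e => ha (congrArg (fun v : Additive ↥A => ((v.toMul : ↥A) : G)) e)⟩)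
    (fun u b e => by
      have e' : ((u.toMul : ↥U) : G) * (b.toMul : ↥B) * ((u.toMul : ↥U) : G)⁻¹ * ((b.toMul : ↥B) : G)⁻¹ = 1 := by
        rw [← hμ, e]; rfl
      rcases hUB _ u.toMul.2 _ b.toMul.2 (mul_inv_eq_iff_eq_mul.mp (mul_inv_eq_one.mp e')) with e1 | e1
      · exact Or.inl (Subtype.ext e1)
      · exact Or.inr (Subtype.ext e1))
    (fun u₁ u₂ _ hu₂ => by
      have hu₂B : ¬ ∀ b ∈ B, ((u₂.toMul : ↥U) : G) * b = b * (u₂.toMul : ↥U) := fun hall => by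
        obtain ⟨⟨b, hb⟩, hb1⟩ := Into.exists_partner.exists_ne_one_of_ne_bot h.hypB
        exact ((hUB _ u₂.toMul.2 b hb (hall b hb)).resolve_right hb1) |> hU0 u₂ hu₂
      obtain ⟨q, hq, hqe⟩ := h.quad h' (hU.le u₁.toMul.2) (hU.le u₂.toMul.2) hu₂B
      obtain ⟨u₃, hu₃, hu₃e⟩ := h.exists_rep hU hUB hq
      refine ⟨Additive.ofMul ⟨u₃, hu₃⟩, fun y y' e => heq _ _ ?_⟩
      have e' := congrArg (fun v : Additive ↥A => ((v.toMul : ↥A) : G)) e
      exact (hu₃e _ y.toMul.2).trans (hqe _ y.toMul.2 _ y'.toMul.2 e'))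
    (fun y₁ y₂ _ hy₂ => by
      have hUB' : ∀ b ∈ B, ∀ u ∈ U, b * u = u * b → b = 1 ∨ u = 1 := fun b hb u hu e =>
        (hUB u hu b hb e.symm).symm
      have hy₂U : ¬ ∀ u ∈ U, ((y₂.toMul : ↥B) : G) * u = u * (y₂.toMul : ↥B) := fun hall => by
        obtain ⟨⟨u, hu⟩, hu1⟩ := Into.exists_partner.exists_ne_one_of_ne_bot hU.hypB
        exact ((hUB' _ y₂.toMul.2 u hu (hall u hu)).resolve_right hu1) |> hB0 y₂ hy₂
      obtain ⟨q, hq, hqe⟩ := hU.quad hU.symm (h.le y₁.toMul.2) (h.le y₂.toMul.2) hy₂U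
      obtain ⟨y₃, hy₃, hy₃e⟩ := hU.exists_rep h hUB' hq
      refine ⟨Additive.ofMul ⟨y₃, hy₃⟩, fun x x' e => heq _ _ ?_⟩
      have e' : ((x.toMul : ↥U) : G) * (y₁.toMul : ↥B) * ((x.toMul : ↥U) : G)⁻¹ * ((y₁.toMul : ↥B) : G)⁻¹ =
          (x'.toMul : ↥U) * (y₂.toMul : ↥B) * ((x'.toMul : ↥U) : G)⁻¹ * ((y₂.toMul : ↥B) : G)⁻¹ :=
        congrArg (fun v : Additive ↥A => ((v.toMul : ↥A) : G)) e
      have swap : ∀ u b : G, u * b * u⁻¹ * b⁻¹ = (b * u * b⁻¹ * u⁻¹)⁻¹ := fun u b => by group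
      refine (swap _ _).trans ?_
      rw [show (((Additive.ofMul (⟨y₃, hy₃⟩ : ↥B)).toMul : ↥B) : G) = y₃ from rfl, hy₃e _ x.toMul.2,
        hqe _ x.toMul.2 _ x'.toMul.2 (inv_injective (by rw [← swap, ← swap, e']))]
      rw [← swap]
      rfl)
  have hA : ∀ {v w : Additive ↥A}, ((v + w).toMul : ↥A).1 = (v.toMul : ↥A).1 * (w.toMul : ↥A).1 := rfl
  refine ⟨F, hFf, hFt, fun s => ((eD s).toMul : ↥A), fun t => ((eY t).toMul : ↥B), ?_,
    fun s t e => eD.injective (Subtype.ext e), fun s t e => eY.injective (Subtype.ext e),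
    fun s t => by simp only [map_add]; rfl, fun s t => by simp only [map_add]; rfl,
    fun g => ⟨fun hg => ⟨eD.symm (Additive.ofMul ⟨g, hg⟩), by simp⟩, fun ⟨s, e⟩ => e ▸ (eD s).toMul.2⟩,
    fun g => ⟨fun hg => ⟨eY.symm (Additive.ofMul ⟨g, hg⟩), by simp⟩, fun ⟨s, e⟩ => e ▸ (eY s).toMul.2⟩, ?_⟩
  · rw [← Nat.card_eq_fintype_card]
    exact Nat.card_congr (eD.toEquiv.trans Additive.toMul)
  have key : ∀ x t : F, ((eX x).toMul : ↥U).1 * ((eY t).toMul : ↥B).1 * (((eX x).toMul : ↥U).1)⁻¹ =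
      ((eD (x * t)).toMul : ↥A).1 * ((eY t).toMul : ↥B).1 := by
    intro x t
    rw [← hμe, hμ]
    group
  have hPA1 : ∀ p ∈ PP A, ∃ x : F, ∀ t, p * ((eY t).toMul : ↥B).1 * p⁻¹ =
      ((eD (x * t)).toMul : ↥A).1 * ((eY t).toMul : ↥B).1 := by
    intro p hp
    obtain ⟨u, hu, hue⟩ := h.exists_rep hU hUB hp
    refine ⟨eX.symm (Additive.ofMul ⟨u, hu⟩), fun t => ?_⟩
    rw [← key, eX.apply_symm_apply]
    exact (mul_right_cancel (hue _ (eY t).toMul.2)).symm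
  have hPA2 : ∀ x : F, ∃ p ∈ PP A, ∀ t, p * ((eY t).toMul : ↥B).1 * p⁻¹ =
      ((eD (x * t)).toMul : ↥A).1 * ((eY t).toMul : ↥B).1 :=
    fun x => ⟨_, hU.le (eX x).toMul.2, key x⟩
  -- from `p` to `r`
  have hinv : ∀ p ∈ PP A, ∀ x : F, x ≠ 0 → (∀ t, p * ((eY t).toMul : ↥B).1 * p⁻¹ =
      ((eD (x * t)).toMul : ↥A).1 * ((eY t).toMul : ↥B).1) →
      ∃ r ∈ PP B, cj r A = cj p B ∧ ∀ s, r * ((eD s).toMul : ↥A).1 * r⁻¹ =
        ((eY (x⁻¹ * s)).toMul : ↥B).1 * ((eD s).toMul : ↥A).1 := by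
    intro p hp x hx hpx
    have hpB : ¬ ∀ b ∈ B, p * b = b * p := fun hall => by
      have e := hpx 1
      rw [mul_one, hall _ (eY 1).toMul.2, mul_inv_cancel_right, right_eq_mul] at e
      exact hx (eD.injective ((heq _ (eD 0) (by rw [e, map_zero]; rfl))))
    obtain ⟨r, hr, hrp, hre⟩ := h.exists_inverse h' hp hpB
    refine ⟨r, hr, hrp, fun s => ?_⟩
    have e := hre _ (eY (x⁻¹ * s)).toMul.2
    have e1 : p * ((eY (x⁻¹ * s)).toMul : ↥B).1 * p⁻¹ * (((eY (x⁻¹ * s)).toMul : ↥B).1)⁻¹ =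
        ((eD s).toMul : ↥A).1 := by
      rw [hpx, mul_inv_cancel_right, mul_inv_cancel_left₀ hx]
    rw [e1] at e
    exact mul_inv_eq_iff_eq_mul.mp e
  refine ⟨hPA1, hPA2, fun r hr => ?_, fun z => ?_⟩
  · by_cases hrA : ∀ a ∈ A, r * a = a * r
    · refine ⟨0, fun s => ?_⟩
      dsimp only
      rw [hrA _ (eD s).toMul.2, mul_inv_cancel_right, zero_mul, map_zero]
      exact (one_mul _).symm
    · obtain ⟨p, hp, hpr, hpe⟩ := h'.exists_inverse h hr hrA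
      obtain ⟨x, hx⟩ := hPA1 p hp
      by_cases hx0 : x = 0
      · exfalso
        have hp' : cj p B = B := by
          refine cj_eq_of_centralizer (mem_centralizer_iff.mpr fun b hb => ?_)
          have e := hx (eY.symm (Additive.ofMul ⟨b, hb⟩))
          rw [eY.apply_symm_apply, hx0, zero_mul, map_zero] at e
          change p * b * p⁻¹ = 1 * b at e
          rw [one_mul] at e
          exact (mul_inv_eq_iff_eq_mul.mp e).symm
        have e2 : cj r A = B := hpr.symm.trans hp'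
        have e3 : cj r A = cj r B := by rw [e2, cj_eq_of_centralizer hr.2]
        exact h.ne (cj_injective r e3).symm
      obtain ⟨r', hr', hrp', hr'e⟩ := hinv p hp x hx0 hx
      refine ⟨x⁻¹, fun s => ?_⟩
      -- `r` and `r'` send `A` to the same member
      have hsame : cj r A = cj r' A := hpr.symm.trans hrp'.symm
      set a := ((eD s).toMul : ↥A).1
      have ha : a ∈ A := (eD s).toMul.2
      obtain ⟨a', ha', e⟩ : r * a * r⁻¹ ∈ cj r' A := hsame ▸ conj_mem_cj r ha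
      change r' * a' * r'⁻¹ = r * a * r⁻¹ at e
      have h1 := h'.commutator_mem_A hr ha
      have h2 := h'.commutator_mem_A hr' ha'
      obtain ⟨-, e2⟩ := h'.eq_of_mul_eq h2 h1 ha' ha (by
        rw [inv_mul_cancel_right, inv_mul_cancel_right]; exact e)
      subst e2
      rw [← e]
      exact hr'e s
  · by_cases hz : z = 0
    · refine ⟨1, one_mem _, fun s => ?_⟩
      dsimp only
      rw [hz, zero_mul, map_zero]
      show (1 : G) * _ * 1⁻¹ = 1 * _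
      group
    obtain ⟨p, hp, hpx⟩ := hPA2 z⁻¹
    obtain ⟨r, hr, -, hre⟩ := hinv p hp z⁻¹ (inv_ne_zero hz) hpx
    exact ⟨r, hr, by simpa using hre⟩

/-- The group generated by `PP A` and `PP B` induces `SL₂(F)` on `A ⊔ B`. -/
theorem quotient_SL2 (h' : Into B A)
    (hN : ((centralizer ((A ⊔ B : Subgroup G) : Set G)).subgroupOf (PP A ⊔ PP B)).Normal) :
    ∃ (F : Type) (_ : Field F) (_ : Fintype F), Fintype.card F = Nat.card ↥A ∧
      Nonempty (↥(PP A ⊔ PP B) ⧸ (centralizer ((A ⊔ B : Subgroup G) : Set G)).subgroupOf (PP A ⊔ PP B) ≃*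
        Matrix.SpecialLinearGroup (Fin 2) F) := by
  classical
  obtain ⟨F, _, _, α, β, hcard, hαi, hβi, hα, hβ, hAmem, hBmem, hPA1, hPA2, hPB1, hPB2⟩ := h.exists_coords h'
  refine ⟨F, inferInstance, inferInstance, hcard, ?_⟩
  let κ : (Fin 2 → F) → G := fun v => α (v 0) * β (v 1)
  have hκW : ∀ v, κ v ∈ A ⊔ B := fun v =>
    mul_mem (mem_sup_left ((hAmem _).mpr ⟨_, rfl⟩)) (mem_sup_right ((hBmem _).mpr ⟨_, rfl⟩))
  have hκi : Function.Injective κ := by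
    intro v w e
    obtain ⟨e1, e2⟩ := h.eq_of_mul_eq ((hAmem _).mpr ⟨_, rfl⟩) ((hAmem _).mpr ⟨_, rfl⟩)
      ((hBmem _).mpr ⟨_, rfl⟩) ((hBmem _).mpr ⟨_, rfl⟩) e
    funext i
    fin_cases i
    · exact hαi e1
    · exact hβi e2
  have hκs : ∀ w ∈ A ⊔ B, ∃ v, κ v = w := by
    intro w hw
    obtain ⟨a, ha, b, hb, rfl⟩ := (mem_sup_iff_of_commute h.comm).mp hw
    obtain ⟨s, rfl⟩ := (hAmem a).mp ha
    obtain ⟨t, rfl⟩ := (hBmem b).mp hb
    exact ⟨![s, t], by simp [κ]⟩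
  let Rep : G → Matrix.SpecialLinearGroup (Fin 2) F → Prop := fun g M =>
    ∀ v, g * κ v * g⁻¹ = κ ((M : Matrix (Fin 2) (Fin 2) F).mulVec v)
  have huniq : ∀ g M M', Rep g M → Rep g M' → M = M' := by
    intro g M M' hM hM'
    refine Subtype.ext (Matrix.ext_of_mulVec_single fun i => ?_)
    exact hκi ((hM _).symm.trans (hM' _))
  have hmul : ∀ g g' M M', Rep g M → Rep g' M' → Rep (g * g') (M * M') := by
    intro g g' M M' hM hM' v
    rw [Matrix.SpecialLinearGroup.coe_mul, ← Matrix.mulVec_mulVec, ← hM, ← hM']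
    group
  have hone : Rep 1 1 := fun v => by
    rw [Matrix.SpecialLinearGroup.coe_one, Matrix.one_mulVec]; group
  have hinv : ∀ g M, Rep g M → Rep g⁻¹ M⁻¹ := by
    intro g M hM v
    have e := hM (((M⁻¹ : Matrix.SpecialLinearGroup (Fin 2) F) : Matrix (Fin 2) (Fin 2) F).mulVec v)
    rw [Matrix.mulVec_mulVec, ← Matrix.SpecialLinearGroup.coe_mul, mul_inv_cancel,
      Matrix.SpecialLinearGroup.coe_one, Matrix.one_mulVec] at e
    rw [← e]
    group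
  let K : Subgroup G :=
    { carrier := {g | ∃ M, Rep g M}
      one_mem' := ⟨1, hone⟩
      mul_mem' := fun ⟨M, hM⟩ ⟨M', hM'⟩ => ⟨M * M', hmul _ _ M M' hM hM'⟩
      inv_mem' := fun ⟨M, hM⟩ => ⟨M⁻¹, hinv _ M hM⟩ }
  have hfixA : ∀ p ∈ PP A, ∀ s, p * α s * p⁻¹ = α s := fun p hp s => by
    rw [← Hyp.comm_PP hp ((hAmem _).mpr ⟨s, rfl⟩), mul_inv_cancel_right]
  have hfixB : ∀ r ∈ PP B, ∀ t, r * β t * r⁻¹ = β t := fun r hr t => by
    rw [← Hyp.comm_PP hr ((hBmem _).mpr ⟨t, rfl⟩), mul_inv_cancel_right]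
  have hup : ∀ p ∈ PP A, ∀ x, (∀ t, p * β t * p⁻¹ = α (x * t) * β t) →
      Rep p (Matrix.SpecialLinearGroup.transvection (show (0 : Fin 2) ≠ 1 by decide) x) := by
    intro p hp x hx v
    show p * (α (v 0) * β (v 1)) * p⁻¹ = α _ * β _
    rw [show p * (α (v 0) * β (v 1)) * p⁻¹ = (p * α (v 0) * p⁻¹) * (p * β (v 1) * p⁻¹) by group,
      hfixA p hp, hx, ← mul_assoc, ← hα]
    congr 2 <;>
      simp [Matrix.SpecialLinearGroup.transvection, Matrix.transvection, Matrix.add_mulVec,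
        Matrix.mulVec, dotProduct, Fin.sum_univ_two, Matrix.single]
  have hdown : ∀ r ∈ PP B, ∀ z, (∀ s, r * α s * r⁻¹ = β (z * s) * α s) →
      Rep r (Matrix.SpecialLinearGroup.transvection (show (1 : Fin 2) ≠ 0 by decide) z) := by
    intro r hr z hz v
    show r * (α (v 0) * β (v 1)) * r⁻¹ = α _ * β _
    rw [show r * (α (v 0) * β (v 1)) * r⁻¹ = (r * α (v 0) * r⁻¹) * (r * β (v 1) * r⁻¹) by group,
      hfixB r hr, hz, ← h.comm _ ((hAmem _).mpr ⟨_, rfl⟩) _ ((hBmem _).mpr ⟨_, rfl⟩), mul_assoc, ← hβ]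
    congr 2 <;>
      simp [Matrix.SpecialLinearGroup.transvection, Matrix.transvection, Matrix.add_mulVec,
        Matrix.mulVec, dotProduct, Fin.sum_univ_two, Matrix.single]
  have hHK : PP A ⊔ PP B ≤ K := sup_le
    (fun p hp => let ⟨x, hx⟩ := hPA1 p hp; ⟨_, hup p hp x hx⟩)
    (fun r hr => let ⟨z, hz⟩ := hPB1 r hr; ⟨_, hdown r hr z hz⟩)
  choose M hM using fun g : ↥(PP A ⊔ PP B) => hHK g.2
  let ρ : ↥(PP A ⊔ PP B) →* Matrix.SpecialLinearGroup (Fin 2) F :=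
    MonoidHom.mk' M fun g g' => huniq _ _ _ (hM (g * g')) (hmul _ _ _ _ (hM g) (hM g'))
  have hker : ρ.ker = (centralizer ((A ⊔ B : Subgroup G) : Set G)).subgroupOf (PP A ⊔ PP B) := by
    ext g
    rw [MonoidHom.mem_ker, mem_subgroupOf, mem_centralizer_iff]
    constructor
    · intro e w hw
      obtain ⟨v, rfl⟩ := hκs w hw
      have := hM g v
      rw [show M g = 1 from e, Matrix.SpecialLinearGroup.coe_one, Matrix.one_mulVec] at this
      exact (mul_inv_eq_iff_eq_mul.mp this).symm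
    · intro hg
      refine huniq _ _ _ (hM g) fun v => ?_
      rw [Matrix.SpecialLinearGroup.coe_one, Matrix.one_mulVec, ← hg _ (hκW v), mul_inv_cancel_right]
  have hsurj : Function.Surjective ρ := by
    rw [← MonoidHom.range_eq_top]
    refine GL.SL_eq_top_of_transvection_mem fun i j hij c => ?_
    fin_cases i <;> fin_cases j
    · exact absurd rfl hij
    · obtain ⟨p, hp, hpe⟩ := hPA2 c
      exact ⟨⟨p, mem_sup_left hp⟩, huniq _ _ _ (hM _) (hup p hp c hpe)⟩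
    · obtain ⟨r, hr, hre⟩ := hPB2 c
      exact ⟨⟨r, mem_sup_right hr⟩, huniq _ _ _ (hM _) (hdown r hr c hre)⟩
    · exact absurd rfl hij
  exact ⟨(QuotientGroup.quotientMulEquivOfEq hker.symm).trans
    (QuotientGroup.quotientKerEquivOfSurjective ρ hsurj)⟩

end Into

end Cfsg.Agent.LargeTI
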