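import Cfsg.Agent.Lib.LargeTI.Criterion

/-!
# `B ≤ O₂(N A)` implies `A ≤ O₂(N B)`

`Into.symm`: if a conjugate `B ≠ A` lies in `C_{O₂(N A)}(A)` then `A` lies in `C_{O₂(N B)}(B)`.
`exists_conj_eq`: then `N(A)` is transitive on `A∖1`, and `Into.QQ_eq_PP`: `O₂(N A)` centralises `A`.
-/

set_option autoImplicit false

namespace Cfsg.Agent.LargeTI

open Subgroup

variable {G : Type*} [Group G] [Finite G]

namespace Into

variable {A B : Subgroup G} (h : Into A B)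
include h

/-- If a conjugate `cj r A` (`r ∈ PP B`) other than `A` meets `A ⊔ B`, then `A ≤ PP B`. -/
theorem key_step {r w : G} (hr : r ∈ PP B) (hne : cj r A ≠ A) (hw : w ∈ cj r A) (hw1 : w ≠ 1)
    (hwW : w ∈ A ⊔ B) : Into B A := by
  obtain ⟨p, hp, e⟩ := (h.eq_of_le_sup ⟨r, rfl⟩ hw hw1 hwW).resolve_left hne
  have hpi : p⁻¹ ∈ PP A := inv_mem hp
  have hB'c : ∃ x, cj p⁻¹ B = cj x B := ⟨p⁻¹, rfl⟩
  have h1 : Into (cj p B) B := by
    have := h.conj_into (x := r)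
    rwa [cj_eq_of_centralizer hr.2, e] at this
  have h2 : Into B (cj p⁻¹ B) := by
    have := h1.conj_into (x := p⁻¹)
    rwa [cj_inv_cj] at this
  refine ⟨h.hypB, ?_, h.ne.symm, fun a ha => ?_⟩
  · obtain ⟨x, hx⟩ := h.conj
    exact ⟨x⁻¹, by rw [hx, cj_inv_cj]⟩
  have hpN : p⁻¹ ∉ normalizer (B : Set G) := fun hn => h1.ne (by
    have := cj_eq_self (inv_mem hn)
    rw [inv_inv] at this
    exact this.symm)
  let f : ↥B → ↥A := fun b => ⟨p⁻¹ * b * p * (b : G)⁻¹, by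
    have := h.hyp.commutator_mem hpi (h.le b.2)
    simpa using this⟩
  have hinj : Function.Injective f := by
    intro b b' e
    by_contra hne'
    refine hpN (h.hypB.mem_normalizer_of_commute (mul_mem (inv_mem b'.2) b.2)
      (fun e => hne' (Subtype.ext (inv_mul_eq_one.mp e).symm)) ?_)
    have e' : p⁻¹ * (b : G) * p * (b : G)⁻¹ = p⁻¹ * b' * p * (b' : G)⁻¹ := congrArg Subtype.val e
    calc p⁻¹ * ((b' : G)⁻¹ * b) = p⁻¹ * (b' : G)⁻¹ * p * (p⁻¹ * b * p * (b : G)⁻¹) * b * p⁻¹ := by group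
      _ = p⁻¹ * (b' : G)⁻¹ * p * (p⁻¹ * b' * p * (b' : G)⁻¹) * b * p⁻¹ := by rw [e']
      _ = (b' : G)⁻¹ * b * p⁻¹ := by group
  have hbij := (Nat.bijective_iff_injective_and_card f).mpr ⟨hinj, h.card_eq⟩
  obtain ⟨b, hb⟩ := hbij.2 ⟨a, ha⟩
  rw [← show p⁻¹ * (b : G) * p * (b : G)⁻¹ = a from congrArg Subtype.val hb]
  refine mul_mem (h2.le (mem_cj.mpr ?_)) (h.hypB.le_PP (inv_mem b.2))
  convert b.2 using 1
  group

theorem le_normalizer_of_mem {x : G} (hx : x ∈ centralizer (B : Set G)) : x ∈ normalizer (B : Set G) :=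
  Subgroup.centralizer_le_normalizer _ hx

theorem mem_centralizer_B {a : G} (ha : a ∈ A) : a ∈ centralizer (B : Set G) :=
  mem_centralizer_iff.mpr fun b hb => (h.comm a ha b hb).symm

/-- If `A` meets `PP B` nontrivially then `A ≤ PP B`. -/
theorem of_meet {v : G} (hv : v ∈ A) (hv1 : v ≠ 1) (hvP : v ∈ PP B) : Into B A := by
  by_cases hr : ∃ r ∈ PP B, r ∉ normalizer (A : Set G)
  · obtain ⟨r, hr, hrN⟩ := hr
    refine h.key_step hr (fun e => hrN (TI.mem_normalizer_iff_conj_eq.mpr e)) (conj_mem_cj r hv)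
      (fun e => hv1 (conj_eq_one_iff.mp e)) ?_
    rw [show r * v * r⁻¹ = r * v * r⁻¹ * v⁻¹ * v by group]
    exact mul_mem (mem_sup_right (h.hypB.commutator_mem hr hvP)) (mem_sup_left hv)
  · push Not at hr
    refine absurd (h.disjoint (h.hypB.mem_of_central hvP fun r hr' => ?_) hv) hv1
    refine (mul_inv_eq_iff_eq_mul.mp (mul_inv_eq_one.mp (h.disjoint (a := r * v * r⁻¹ * v⁻¹) ?_ ?_))).symm
    · exact h.hypB.commutator_mem hr' hvP
    · exact mul_mem (TI.conj_mem_of_mem_normalizer (hr r hr') hv) (inv_mem hv)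

/-- Two conjugates inside `PP A` centralise each other's translates: the swap element. -/
theorem exists_swap (hno : ¬ Into B A) :
    ∃ r ∈ PP B, Into A (cj r A) ∧ Into (cj r A) A ∧ cj r (cj r A) = A ∧
      ∀ v ∈ A, r * v * r⁻¹ * v⁻¹ ∈ PP B := by
  haveI : Fact (Nat.Prime 2) := ⟨Nat.prime_two⟩
  have hJ : ∀ v ∈ A, v ∈ PP B → v = 1 := fun v hv hvP => by
    by_contra hv1
    exact hno (h.of_meet hv hv1 hvP)
  have hconjP : ∀ x, x ∈ centralizer (B : Set G) → ∀ q ∈ PP B, x * q * x⁻¹ ∈ PP B := fun x hx q hq =>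
    Hyp.conj_mem_PP (h.le_normalizer_of_mem hx) hq
  set P : Subgroup G := PP B with hP
  set F : Subgroup G := P ⊓ centralizer (A : Set G) with hF
  have hBF : B ≤ F := le_inf h.hypB.le_PP fun b hb =>
    mem_centralizer_iff.mpr fun a ha => h.comm a ha b hb
  haveI hFn : (F.subgroupOf P).Normal := by
    refine ⟨fun f hf q => ?_⟩
    show (q : G) * f * (q : G)⁻¹ ∈ F
    rw [show (q : G) * f * (q : G)⁻¹ = q * f * (q : G)⁻¹ * (f : G)⁻¹ * f by group]
    exact mul_mem (hBF (h.hypB.commutator_mem q.2 hf.1)) hf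
  -- some element of `P` does not centralise `A`
  have hFne : ¬ P ≤ centralizer (A : Set G) := by
    intro hle
    obtain ⟨⟨v, hv⟩, hv1⟩ := Into.exists_partner.exists_ne_one_of_ne_bot h.hyp
    refine hv1 (hJ v hv (h.hypB.mem_PP_of_stab (h.mem_centralizer_B hv) fun p hp => ?_))
    rw [mem_centralizer_iff.mp (hle hp) v hv]
    simp
  set E : Subgroup G := PP A ⊓ centralizer (B : Set G) with hE
  have hEN : ∀ e ∈ E, ∀ f ∈ F, e * f * e⁻¹ ∈ F := fun e he f hf =>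
    ⟨hconjP e he.2 f hf.1, Hyp.conj_mem_centralizer (Hyp.PP_le_normalizer he.1) hf.2⟩
  let α : ↥E → MulAut ↥P := fun e =>
    { toFun := fun p => ⟨e * p * (e : G)⁻¹, hconjP e e.2.2 p p.2⟩
      invFun := fun p => ⟨(e : G)⁻¹ * p * e, by simpa using hconjP (e : G)⁻¹ (inv_mem e.2.2) p p.2⟩
      left_inv := fun p => Subtype.ext (by group)
      right_inv := fun p => Subtype.ext (by group)
      map_mul' := fun p q => Subtype.ext (by simp only [Subgroup.coe_mul]; group) }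
  letI : MulAction ↥E (↥P ⧸ F.subgroupOf P) :=
    { smul := fun e => Quotient.map' (α e) fun a b hab => by
        rw [QuotientGroup.leftRel_apply] at hab ⊢
        show ((e : G) * a * (e : G)⁻¹)⁻¹ * (e * b * (e : G)⁻¹) ∈ F
        rw [show ((e : G) * a * (e : G)⁻¹)⁻¹ * (e * b * (e : G)⁻¹) = e * ((a : G)⁻¹ * b) * (e : G)⁻¹ by group]
        exact hEN e e.2 _ hab
      one_smul := fun u => by
        induction u using QuotientGroup.induction_on with
        | _ p => exact congrArg (QuotientGroup.mk) (Subtype.ext (by show (1 : G) * p * 1⁻¹ = p; group))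
      mul_smul := fun e e' u => by
        induction u using QuotientGroup.induction_on with
        | _ p =>
          refine congrArg (QuotientGroup.mk) (Subtype.ext ?_)
          show ((e : G) * e') * p * ((e : G) * e')⁻¹ = e * (e' * p * (e' : G)⁻¹) * (e : G)⁻¹
          group }
  have h2 : 2 ∣ Nat.card (↥P ⧸ F.subgroupOf P) := by
    obtain ⟨n, hn⟩ := IsPGroup.iff_card.mp
      ((Hyp.isPGroup_PP (A := B)).to_quotient (F.subgroupOf P))
    rcases n.eq_zero_or_pos with rfl | hn0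
    · refine absurd (fun p hp => ?_) hFne
      rw [pow_zero, ← Subgroup.index_eq_card, Subgroup.index_eq_one] at hn
      exact (hn.ge (mem_top (⟨p, hp⟩ : ↥P))).2
    · exact hn ▸ dvd_pow_self 2 (by omega)
  obtain ⟨u, hu, hune⟩ := ((Hyp.isPGroup_PP (A := A)).to_le inf_le_left :
      IsPGroup 2 ↥E).exists_fixed_point_of_prime_dvd_card_of_fixed_point _ h2
    (a := QuotientGroup.mk (1 : ↥P)) (fun e => congrArg (QuotientGroup.mk) (Subtype.ext (by
      show (e : G) * ((1 : ↥P) : G) * (e : G)⁻¹ = ((1 : ↥P) : G); simp)))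
  induction u using QuotientGroup.induction_on with
  | _ r =>
  have hrF : (r : G) ∉ F := fun hr => hune ((QuotientGroup.eq).mpr (by
    show ((1 : G))⁻¹ * r ∈ F; simpa using hr))
  -- `E` fixes `r` modulo `F`
  have hfix : ∀ e ∈ E, ∃ f ∈ F, e * r * e⁻¹ = r * f := by
    intro e he
    have h3 : r⁻¹ * α ⟨e, he⟩ r ∈ F.subgroupOf P := (QuotientGroup.eq).mp (hu ⟨e, he⟩).symm
    exact ⟨(r : G)⁻¹ * (e * r * e⁻¹), h3, by group⟩
  have hAE : ∀ a ∈ A, a ∈ E := fun a ha => ⟨h.hyp.le_PP ha, h.mem_centralizer_B ha⟩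
  have hd : ∀ v ∈ A, (r : G) * v * (r : G)⁻¹ ∈ PP A ∧ (r : G) * v * (r : G)⁻¹ * v⁻¹ ∈ P := by
    intro v hv
    set d := (r : G) * v * (r : G)⁻¹ * v⁻¹ with hdd
    have hdP : d ∈ P := by
      rw [hdd, show (r : G) * v * (r : G)⁻¹ * v⁻¹ = r * (v * (r : G)⁻¹ * v⁻¹) by group]
      exact mul_mem r.2 (hconjP v (h.mem_centralizer_B hv) _ (inv_mem r.2))
    have hdF : d ∈ F := by
      obtain ⟨f, hf, e⟩ := hfix v (hAE v hv)
      have : d = (r * f * (r : G)⁻¹)⁻¹ := by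
        rw [hdd, ← e]; group
      rw [this]
      exact inv_mem (hFn.conj_mem ⟨f, hf.1⟩ hf r)
    have hdc : d * v = v * d := (mem_centralizer_iff.mp hdF.2 v hv).symm
    have hd2 : d * d = 1 := by
      have e : d * v = r * v * (r : G)⁻¹ := by rw [hdd]; group
      calc d * d = d * d * (v * v) := by rw [h.hyp.sq v hv, mul_one]
        _ = d * (d * v) * v := by group
        _ = d * (v * d) * v := by rw [← hdc]
        _ = (d * v) * (d * v) := by group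
        _ = r * (v * v) * (r : G)⁻¹ := by rw [e]; group
        _ = 1 := by rw [h.hyp.sq v hv]; group
    have hdA : d ∈ PP A := mem_PP_of_involution h hdF.2 hd2 fun e he heB => by
      have heE : e ∈ E := ⟨he, mem_centralizer_iff.mpr fun b hb => (heB b hb).symm⟩
      obtain ⟨f, hf, e1⟩ := hfix e heE
      have hev : e * v * e⁻¹ = v := by rw [← Hyp.comm_PP he hv, mul_inv_cancel_right]
      refine (mul_inv_eq_iff_eq_mul.mp ?_).symm
      calc e * d * e⁻¹ = (e * r * e⁻¹) * (e * v * e⁻¹) * (e * r * e⁻¹)⁻¹ * (e * v * e⁻¹)⁻¹ := by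
            rw [hdd]; group
        _ = r * (f * v * f⁻¹) * (r : G)⁻¹ * v⁻¹ := by rw [e1, hev]; group
        _ = d := by rw [← mem_centralizer_iff.mp hf.2 v hv, mul_inv_cancel_right]
    refine ⟨?_, hdP⟩
    rw [show (r : G) * v * (r : G)⁻¹ = d * v by rw [hdd]; group]
    exact mul_mem hdA (h.hyp.le_PP hv)
  have hXle : cj (r : G) A ≤ PP A := by
    rintro _ ⟨v, hv, rfl⟩
    exact (hd v hv).1
  have hXne : cj (r : G) A ≠ A := by
    intro e
    refine hrF ⟨r.2, mem_centralizer_iff.mpr fun v hv => ?_⟩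
    have hm : (r : G) * v * (r : G)⁻¹ * v⁻¹ ∈ A :=
      mul_mem (by rw [← SetLike.mem_coe, ← e]; exact conj_mem_cj (r : G) hv) (inv_mem hv)
    exact ((mul_inv_eq_iff_eq_mul.mp (mul_inv_eq_one.mp (hJ _ hm (hd v hv).2)))).symm
  have hX : Into A (cj (r : G) A) := ⟨h.hyp, ⟨r, rfl⟩, hXne, hXle⟩
  have hrr : cj (r : G) (cj (r : G) A) = A := by
    rw [cj_cj]
    exact cj_eq_of_centralizer (mem_centralizer_iff.mpr fun a ha => h.comm a ha _ (h.hypB.sq_mem r.2))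
  refine ⟨r, r.2, hX, ?_, hrr, fun v hv => (hd v hv).2⟩
  have := hX.conj_into (x := (r : G))
  rwa [hrr] at this

end Into

/-- If `B` and `A` are mutually inside, `N(A)` is transitive on `A∖1`. -/
theorem exists_conj_eq {A B : Subgroup G} (h : Into A B) (h' : Into B A) {a a' : G} (ha : a ∈ A)
    (ha1 : a ≠ 1) (ha' : a' ∈ A) (ha'1 : a' ≠ 1) :
    ∃ m ∈ normalizer (A : Set G), m * a * m⁻¹ = a' := by
  obtain ⟨⟨b, hb⟩, hb1⟩ := Into.exists_partner.exists_ne_one_of_ne_bot h.hypB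
  obtain ⟨r₁, -, e₁⟩ := h'.surj hb ha ha1
  obtain ⟨p₁, -, e₂⟩ := h.surj ha hb hb1
  obtain ⟨p₂, -, e₃⟩ := h.surj ha' hb hb1
  obtain ⟨r₂, -, e₄⟩ := h'.surj hb ha' ha'1
  -- a ↦ b a = a b ↦ b ↦ a' b = b a' ↦ a'
  set m := r₂⁻¹ * (p₂ * (p₁⁻¹ * r₁)) with hm
  have he : m * a * m⁻¹ = a' := by
    have e₂' : p₁⁻¹ * (b * a) * p₁ = b := by rw [← h.comm a ha b hb, ← e₂]; group
    calc m * a * m⁻¹ = r₂⁻¹ * (p₂ * (p₁⁻¹ * (r₁ * a * r₁⁻¹) * p₁) * p₂⁻¹) * r₂ := by rw [hm]; group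
      _ = r₂⁻¹ * (b * a') * r₂ := by rw [e₁, e₂', e₃, h.comm a' ha' b hb]
      _ = a' := by rw [← e₄]; group
  refine ⟨m, TI.mem_normalizer_iff_conj_eq.mpr ?_, he⟩
  exact h.hyp.eq_of_meet ⟨m, rfl⟩ ⟨1, (cj_one A).symm⟩ (he ▸ conj_mem_cj m ha) ha' ha'1

namespace Into

variable {A B : Subgroup G} (h : Into A B)
include h

/-- The counting contradiction. -/
theorem symm : Into B A := by
  by_contra hno
  obtain ⟨r, hrP, hX, hX', hrr, hd⟩ := h.exists_swap hno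
  set X := cj r A with hXdef
  set W : Subgroup G := A ⊔ X with hW
  set U : Subgroup G := W ⊔ B with hU
  have hB_X : Into X B := by
    have := h.conj_into (x := r)
    rwa [cj_eq_of_centralizer hrP.2] at this
  have hUX : U ≤ PP X := sup_le (sup_le hX'.le hX'.hyp.le_PP) hB_X.le
  have hUA : U ≤ PP A := sup_le (sup_le h.hyp.le_PP hX.le) h.le
  -- members
  let IsM : Subgroup G → Prop := fun Z => Z = A ∨ ∃ p ∈ PP A, Z = cj p X
  have hnormU : ∀ p ∈ PP A, cj p U ≤ U := by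
    rintro p hp _ ⟨u, hu, rfl⟩
    show p * u * p⁻¹ ∈ U
    rw [show p * u * p⁻¹ = p * u * p⁻¹ * u⁻¹ * u by group]
    exact mul_mem (mem_sup_left (mem_sup_left (h.hyp.commutator_mem hp (hUA hu)))) hu
  have hconjM : ∀ Z, IsM Z → ∃ x, Z = cj x A := by
    rintro Z (rfl | ⟨p, -, rfl⟩)
    · exact ⟨1, (cj_one Z).symm⟩
    · exact ⟨p * r, by rw [hXdef, cj_cj]⟩
  have hMW : ∀ Z, IsM Z → Z ≤ W := by
    rintro Z (rfl | ⟨p, hp, rfl⟩)
    · exact le_sup_left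
    · intro z hz
      obtain ⟨x, hx, rfl⟩ := hz
      exact (mem_normalizer_iff.mp (hX.PP_le_normalizer_sup hp) x).mp (mem_sup_right hx)
  have hMU : ∀ Z, IsM Z → U ≤ PP Z := by
    rintro Z (rfl | ⟨p, hp, rfl⟩)
    · exact hUA
    · rw [PP_cj]
      intro u hu
      have : p⁻¹ * u * p ∈ U := by
        have h5 := hnormU p⁻¹ (inv_mem hp) (conj_mem_cj p⁻¹ hu)
        simpa using h5
      exact mem_cj.mpr (hUX this)
  have hmem : ∀ Z : Subgroup G, (∃ x, Z = cj x A) → ∀ w ∈ Z, w ≠ 1 → w ∈ W → IsM Z :=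
    fun Z hZ w hw hw1 hwW => hX.eq_of_le_sup hZ hw hw1 hwW
  -- at most one member lies in `PP B`
  have hZB : ∀ Z, IsM Z → B ≠ Z := by
    rintro Z (rfl | ⟨p, hp, rfl⟩) e
    · exact h.ne e
    · obtain ⟨⟨b, hb⟩, hb1⟩ := Into.exists_partner.exists_ne_one_of_ne_bot h.hypB
      refine hno ?_
      refine h.key_step (r := r) hrP hX.ne (w := p⁻¹ * b * p) ?_ (fun e' => hb1 ?_) ?_
      · rw [e] at hb; exact mem_cj.mp hb
      · calc b = p * (p⁻¹ * b * p) * p⁻¹ := by group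
          _ = 1 := by rw [e']; group
      · rw [show p⁻¹ * b * p = p⁻¹ * b * p⁻¹⁻¹ * b⁻¹ * b by group]
        exact mul_mem (mem_sup_left (h.hyp.commutator_mem (inv_mem hp) (h.le hb))) (mem_sup_right hb)
  have huniq : ∀ Z Z', IsM Z → IsM Z' → Z ≤ PP B → Z' ≤ PP B → Z = Z' := by
    intro Z Z' hZ hZ' hle hle'
    by_contra hne
    apply hno
    have hsup : W ≤ Z ⊔ Z' := by
      have hd : Disjoint Z Z' := disjoint_iff.mpr <| (Subgroup.eq_bot_iff_forall _).mpr fun x hx => by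
        by_contra hx1
        exact hne (h.hyp.eq_of_meet (hconjM Z hZ) (hconjM Z' hZ') hx.1 hx.2 hx1)
      have hcard : Nat.card ↥Z * Nat.card ↥Z' ≤ Nat.card ↥(Z ⊔ Z') := by
        rw [← Nat.card_prod]
        refine Nat.card_le_card_of_injective
          (fun x : ↥Z × ↥Z' => (⟨(x.1 : G) * x.2, mul_mem (mem_sup_left x.1.2) (mem_sup_right x.2.2)⟩ :
            ↥(Z ⊔ Z'))) fun x y e => ?_
        exact mul_injective_of_disjoint hd (congrArg Subtype.val e)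
      have hW2 : Nat.card ↥W ≤ Nat.card ↥A * Nat.card ↥A := by
        conv_rhs => arg 2; rw [← hX.card_eq]
        rw [← Nat.card_prod]
        refine Nat.card_le_card_of_surjective (fun x : ↥A × ↥X =>
          (⟨(x.1 : G) * x.2, mul_mem (mem_sup_left x.1.2) (mem_sup_right x.2.2)⟩ : ↥W)) fun w => ?_
        obtain ⟨a, ha, x, hx, e⟩ := (mem_sup_iff_of_commute hX.comm).mp w.2
        exact ⟨(⟨a, ha⟩, ⟨x, hx⟩), Subtype.ext e.symm⟩
      have hc : ∀ Z, IsM Z → Nat.card ↥Z = Nat.card ↥A := fun Z hZ => by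
        obtain ⟨x, rfl⟩ := hconjM Z hZ; exact card_cj x A
      rw [hc Z hZ, hc Z' hZ'] at hcard
      exact (eq_of_le_of_card_ge (sup_le (hMW Z hZ) (hMW Z' hZ')) (hW2.trans hcard)).ge
    refine ⟨h.hypB, ?_, h.ne.symm, (le_sup_left : A ≤ W).trans (hsup.trans (sup_le hle hle'))⟩
    obtain ⟨x, hx⟩ := h.conj
    exact ⟨x⁻¹, by rw [hx, cj_inv_cj]⟩
  have hInto : ∀ Z, IsM Z → Into Z B := fun Z hZ => by
    refine ⟨?_, ?_, hZB Z hZ, le_sup_right.trans (hMU Z hZ)⟩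
    · obtain ⟨x, rfl⟩ := hconjM Z hZ; exact h.hyp.conj x
    · obtain ⟨x, rfl⟩ := hconjM Z hZ
      obtain ⟨y, hy⟩ := h.conj
      exact ⟨y * x⁻¹, by rw [hy, cj_cj, inv_mul_cancel_right]⟩
  -- a member inside `PP B`
  obtain ⟨A₀, hA₀, hA₀B⟩ : ∃ Z, IsM Z ∧ Into B Z := by
    obtain ⟨⟨v, hv⟩, hv1⟩ := Into.exists_partner.exists_ne_one_of_ne_bot h.hyp
    set d := r * v * r⁻¹ * v⁻¹ with hdd
    have hdW : d ∈ W := mul_mem (mem_sup_right (conj_mem_cj r hv)) (mem_sup_left (inv_mem hv))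
    have hd1 : d ≠ 1 := fun e => hX.ne (h.hyp.eq_of_meet ⟨r, rfl⟩ ⟨1, (cj_one A).symm⟩
      (mul_inv_eq_one.mp e ▸ conj_mem_cj r hv) hv hv1)
    obtain ⟨a, ha, x, hx, e⟩ := (mem_sup_iff_of_commute hX.comm).mp hdW
    obtain ⟨Z, hZ, hdZ⟩ : ∃ Z, IsM Z ∧ d ∈ Z := by
      by_cases hx1 : x = 1
      · exact ⟨A, Or.inl rfl, by rw [e, hx1, mul_one]; exact ha⟩
      · obtain ⟨p, hp, e'⟩ := hX.surj ha hx hx1
        exact ⟨cj p X, Or.inr ⟨p, hp, rfl⟩, by rw [e, ← e']; exact conj_mem_cj p hx⟩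
    exact ⟨Z, hZ, (hInto Z hZ).of_meet hdZ hd1 (hd v hv)⟩
  -- elements normalizing `W` and trivial on `B` modulo `W`
  let Good : G → Prop := fun g => g ∈ normalizer (W : Set G) ∧ ∀ b ∈ B, g * b * g⁻¹ * b⁻¹ ∈ W
  have hgmul : ∀ g g', Good g → Good g' → Good (g * g') := by
    rintro g g' ⟨hg, hgb⟩ ⟨hg', hgb'⟩
    refine ⟨mul_mem hg hg', fun b hb => ?_⟩
    rw [show g * g' * b * (g * g')⁻¹ * b⁻¹ = g * (g' * b * g'⁻¹ * b⁻¹) * g⁻¹ * (g * b * g⁻¹ * b⁻¹) by group]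
    exact mul_mem (TI.conj_mem_of_mem_normalizer hg (hgb' b hb)) (hgb b hb)
  have hginv : ∀ g, Good g → Good g⁻¹ := by
    rintro g ⟨hg, hgb⟩
    refine ⟨inv_mem hg, fun b hb => ?_⟩
    rw [show g⁻¹ * b * g⁻¹⁻¹ * b⁻¹ = g⁻¹ * (g * b * g⁻¹ * b⁻¹)⁻¹ * g⁻¹⁻¹ by group]
    exact TI.conj_mem_of_mem_normalizer (inv_mem hg) (inv_mem (hgb b hb))
  have hgP : ∀ p ∈ PP A, Good p := fun p hp =>
    ⟨hX.PP_le_normalizer_sup hp, fun b hb => mem_sup_left (h.hyp.commutator_mem hp (h.le hb))⟩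
  have hgr : Good r := by
    refine ⟨TI.mem_normalizer_iff_conj_eq.mpr ?_, fun b hb => ?_⟩
    · rw [hW, Subgroup.map_sup]
      show cj r A ⊔ cj r X = A ⊔ X
      rw [hrr, ← hXdef, sup_comm]
    · rw [← mem_centralizer_iff.mp hrP.2 b hb]; simp
  have htrans : ∀ Z, IsM Z → ∃ g, Good g ∧ Z = cj g A₀ := by
    have hfrom : ∀ Z, IsM Z → ∃ g, Good g ∧ Z = cj g A := by
      rintro Z (rfl | ⟨p, hp, rfl⟩)
      · exact ⟨1, hgP 1 (one_mem _), (cj_one Z).symm⟩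
      · exact ⟨p * r, hgmul p r (hgP p hp) hgr, by rw [hXdef, cj_cj]⟩
    intro Z hZ
    obtain ⟨g, hg, rfl⟩ := hfrom Z hZ
    obtain ⟨g₀, hg₀, e₀⟩ := hfrom A₀ hA₀
    exact ⟨g * g₀⁻¹, hgmul _ _ hg (hginv _ hg₀), by rw [e₀, cj_cj, inv_mul_cancel_right]⟩
  obtain ⟨⟨b₁, hb₁⟩, hb₁1⟩ := Into.exists_partner.exists_ne_one_of_ne_bot h.hypB
  choose gZ hgZ hgZe using fun Z : {Z // IsM Z} => htrans Z.1 Z.2
  choose pA hpA hpAe using fun a : ↥A₀ => (hInto A₀ hA₀).surj a.2 hb₁ hb₁1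
  have hgA₀ : ∀ p ∈ PP A₀, Good p := fun p hp => by
    have hUA₀ := hMU A₀ hA₀
    have hA₀W := hMW A₀ hA₀
    refine ⟨TI.mem_normalizer_iff_conj_eq.mpr (eq_of_le_of_card_ge ?_
      (card_map_of_injective (MulAut.conj p).injective).ge), fun b hb => ?_⟩
    · rintro _ ⟨w, hw, rfl⟩
      show p * w * p⁻¹ ∈ W
      rw [show p * w * p⁻¹ = p * w * p⁻¹ * w⁻¹ * w by group]
      exact mul_mem (hA₀W ((hInto A₀ hA₀).hyp.commutator_mem hp (hUA₀ (mem_sup_left hw)))) hw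
    · exact hA₀W ((hInto A₀ hA₀).hyp.commutator_mem hp (hUA₀ (mem_sup_right hb)))
  let T : {Z // IsM Z} × ↥A₀ → ↥W := fun x =>
    ⟨gZ x.1 * ((x.2 : G) * b₁) * (gZ x.1)⁻¹ * b₁⁻¹, by
      rw [← hpAe x.2]
      have := (hgmul _ _ (hgZ x.1) (hgA₀ _ (hpA x.2))).2 b₁ hb₁
      convert this using 1
      group⟩
  have hT : Function.Injective T := by
    rintro ⟨Z, a⟩ ⟨Z', a'⟩ e
    have e' : gZ Z * ((a : G) * b₁) * (gZ Z)⁻¹ = gZ Z' * ((a' : G) * b₁) * (gZ Z')⁻¹ :=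
      mul_right_cancel (congrArg Subtype.val e)
    have hY : cj (gZ Z * pA a) B = cj (gZ Z' * pA a') B := by
      obtain ⟨y, hy⟩ := h.conj
      refine h.hyp.eq_of_meet ⟨gZ Z * pA a * y, by rw [hy, cj_cj]⟩ ⟨gZ Z' * pA a' * y, by rw [hy, cj_cj]⟩
        (a := gZ Z * ((a : G) * b₁) * (gZ Z)⁻¹) ?_ ?_ ?_
      · rw [← hpAe a, show gZ Z * (pA a * b₁ * (pA a)⁻¹) * (gZ Z)⁻¹ =
          gZ Z * pA a * b₁ * (gZ Z * pA a)⁻¹ by group]
        exact conj_mem_cj _ hb₁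
      · rw [e', ← hpAe a', show gZ Z' * (pA a' * b₁ * (pA a')⁻¹) * (gZ Z')⁻¹ =
          gZ Z' * pA a' * b₁ * (gZ Z' * pA a')⁻¹ by group]
        exact conj_mem_cj _ hb₁
      · intro e1
        rw [← hpAe a, conj_eq_one_iff, conj_eq_one_iff] at e1
        exact hb₁1 e1
    have hinto : ∀ (Z : {Z // IsM Z}) (a : ↥A₀), Into (cj (gZ Z * pA a) B) Z.1 := fun Z a => by
      have := hA₀B.conj_into (x := gZ Z * pA a)
      rw [← cj_cj _ _ A₀, cj_eq_self (Hyp.PP_le_normalizer (hpA a)), ← hgZe Z] at this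
      exact this
    have hZZ : Z = Z' := by
      refine Subtype.ext ?_
      have h1 := (hinto Z a).le
      have h2 := (hinto Z' a').le
      rw [← hY] at h2
      have hback : ∀ Z₂ : Subgroup G, IsM Z₂ → Z₂ ≤ PP (cj (gZ Z * pA a) B) →
          cj (gZ Z * pA a)⁻¹ Z₂ = A₀ := by
        intro Z₂ hZ₂ hle
        have hg := hginv _ (hgmul _ _ (hgZ Z) (hgA₀ _ (hpA a)))
        refine huniq _ _ ?_ hA₀ ?_ hA₀B.le
        · obtain ⟨⟨z, hz⟩, hz1⟩ : ∃ z : ↥Z₂, (z : G) ≠ 1 :=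
            Into.exists_partner.exists_ne_one_of_ne_bot (hInto Z₂ hZ₂).hyp
          refine hmem _ ?_ _ (conj_mem_cj _ hz) (fun e1 => hz1 (conj_eq_one_iff.mp e1))
            (TI.conj_mem_of_mem_normalizer hg.1 (hMW Z₂ hZ₂ hz))
          obtain ⟨x, rfl⟩ := hconjM Z₂ hZ₂
          exact ⟨(gZ Z * pA a)⁻¹ * x, cj_cj _ _ _⟩
        · have := cj_le_cj (gZ Z * pA a)⁻¹ hle
          rwa [← PP_cj, cj_inv_cj] at this
      exact cj_injective _ ((hback Z.1 Z.2 h1).trans (hback Z'.1 Z'.2 h2).symm)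
    subst hZZ
    have e2 : (a : G) = a' := mul_right_cancel (mul_left_cancel (mul_right_cancel e'))
    exact Prod.ext rfl (Subtype.ext e2)
  -- at least `|A| + 1` members
  have hcount : Nat.card ↥A + 1 ≤ Nat.card {Z // IsM Z} := by
    obtain ⟨⟨x, hx⟩, hx1⟩ := Into.exists_partner.exists_ne_one_of_ne_bot hX.hypB
    choose p hp hpe using fun a : ↥A => hX.surj a.2 hx hx1
    classical
    rw [show Nat.card ↥A + 1 = Nat.card (Option ↥A) from Finite.card_option.symm]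
    refine Nat.card_le_card_of_injective (fun o : Option ↥A => match o with
      | none => (⟨A, Or.inl rfl⟩ : {Z // IsM Z})
      | some a => ⟨cj (p a) X, Or.inr ⟨p a, hp a, rfl⟩⟩) ?_
    have hne : ∀ a, cj (p a) X ≠ A := fun a e => by
      have h5 := cj_eq_self (Hyp.PP_le_normalizer (hp a))
      exact hX.ne (cj_injective (p a) (e.trans h5.symm))
    rintro (_ | a) (_ | a') e
    · rfl
    · exact absurd (congrArg Subtype.val e).symm (hne a')
    · exact absurd (congrArg Subtype.val e) (hne a)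
    · have hm : ((a : G) * x) * ((a' : G) * x)⁻¹ ∈ cj (p a) X := by
        refine mul_mem (hpe a ▸ conj_mem_cj _ hx) (inv_mem ?_)
        rw [show cj (p a) X = cj (p a') X from congrArg Subtype.val e, ← hpe a']
        exact conj_mem_cj _ hx
      rw [show (a : G) * x * ((a' : G) * x)⁻¹ = (a : G) * (a' : G)⁻¹ by group] at hm
      have := h.hyp.inf_eq_bot ⟨p a * r, by rw [hXdef, cj_cj]⟩ (hne a) hm (mul_mem a.2 (inv_mem a'.2))
      exact congrArg some (Subtype.ext (mul_inv_eq_one.mp this))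
  have h3 := Nat.card_le_card_of_injective T hT
  rw [Nat.card_prod] at h3
  have hA₀card : Nat.card ↥A₀ = Nat.card ↥A := by
    obtain ⟨x, hx⟩ := hconjM A₀ hA₀
    rw [hx]; exact card_cj x A
  have hW2 : Nat.card ↥W ≤ Nat.card ↥A * Nat.card ↥A := by
    conv_rhs => arg 2; rw [← hX.card_eq]
    rw [← Nat.card_prod]
    refine Nat.card_le_card_of_surjective (fun x : ↥A × ↥X =>
      (⟨(x.1 : G) * x.2, mul_mem (mem_sup_left x.1.2) (mem_sup_right x.2.2)⟩ : ↥W)) fun w => ?_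
    obtain ⟨a, ha, x, hx, e⟩ := (mem_sup_iff_of_commute hX.comm).mp w.2
    exact ⟨(⟨a, ha⟩, ⟨x, hx⟩), Subtype.ext e.symm⟩
  rw [hA₀card] at h3
  have := Nat.mul_le_mul_right (Nat.card ↥A) hcount
  have hpos : 0 < Nat.card ↥A := Nat.card_pos
  rw [Nat.add_mul, one_mul] at this
  omega

/-- `O₂(N A)` centralises `A`. -/
theorem QQ_eq_PP : QQ A = PP A := by
  haveI : Fact (Nat.Prime 2) := ⟨Nat.prime_two⟩
  refine le_antisymm (fun q hq => ⟨hq, ?_⟩) inf_le_left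
  haveI : (A.subgroupOf (QQ A)).Normal :=
    ⟨fun a ha q => show (q : G) * a * (q : G)⁻¹ ∈ A from
      TI.conj_mem_of_mem_normalizer (h.hyp.QQ_le q.2) ha⟩
  obtain ⟨a₀, ha₀, ha₀c, ha₀o⟩ := PGroup.exists_orderOf_eq_mem_center (Hyp.isPGroup_QQ (A := A))
    (A.subgroupOf (QQ A)) (fun e => h.hyp.ne_bot ((Subgroup.eq_bot_iff_forall _).mpr fun a ha => by
      have : (⟨a, h.hyp.le_QQ ha⟩ : ↥(QQ A)) ∈ A.subgroupOf (QQ A) := ha
      rw [e, mem_bot] at this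
      exact congrArg Subtype.val this))
  have ha₀1 : (a₀ : G) ≠ 1 := fun e => by
    rw [show a₀ = 1 from Subtype.ext e, orderOf_one] at ha₀o; omega
  refine mem_centralizer_iff.mpr fun a ha => ?_
  by_cases ha1 : a = 1
  · simp [ha1]
  obtain ⟨m, hm, e⟩ := exists_conj_eq h h.symm ha₀ ha₀1 ha ha1
  have hq' : m⁻¹ * q * m ∈ QQ A := by simpa using Hyp.conj_mem_QQ (inv_mem hm) hq
  have := congrArg Subtype.val (mem_center_iff.mp ha₀c ⟨_, hq'⟩)
  simp only [Subgroup.coe_mul] at this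
  change m * (a₀ : G) * m⁻¹ = a at e
  calc a * q = m * ((a₀ : G) * (m⁻¹ * q * m)) * m⁻¹ := by rw [← e]; group
    _ = q * a := by rw [← this, ← e]; group

end Into

end Cfsg.Agent.LargeTI
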